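import Groth.Agent.DEq.GenerateMod
import Groth.Agent.KFlat.QCohModel
import Groth.Agent.KFlat.CellGen
import Groth.Agent.KFlat.RPushBase
import Groth.Agent.IndCoh.Derived
import Groth.Agent.QCoh.Pullback

/-!
# `D_QCoh` of an affine scheme is generated by the structure sheaf
-/

set_option autoImplicit false

universe u

open CategoryTheory CategoryTheory.Limits AlgebraicGeometry CategoryTheory.Pretriangulated

attribute [local instance] HasDerivedCategory.standard

namespace Groth.Agent.DEq.AffineGen

/-- Exact restriction functors give derived functors preserving coproducts. -/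
theorem isLeftAdjoint_restrictD {U X : Scheme.{u}} (j : U ⟶ X) [IsOpenImmersion j] :
    (DCoh.restrictD j).IsLeftAdjoint :=
  IndCoh.isLeftAdjoint_mapDerivedCategory (Scheme.Modules.restrictFunctor j)

variable {V : Scheme.{u}} [IsAffine V]

/-- A class closed under triangles and coproducts containing all shifts of the structure sheaf contains
every complex with quasi-coherent cohomology, on an affine scheme. -/
theorem mem {P : DCoh.D V → Prop} (hP : Groth.Agent.KFlat.CellGen.Closed P)
    (hone : ∀ n : ℤ, P (DerivedCategory.Q.obj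
      ((HomologicalComplex.single V.Modules (ComplexShape.up ℤ) n).obj (Coh.structureModule V))))
    {K : DCoh.D V} (hK : DCoh.IsQCohD K) : P K := by
  let R : CommRingCat.{u} := Γ(V, ⊤)
  let e : V ≅ Spec R := V.isoSpec
  have := Groth.Agent.KFlat.TildeExact.preservesFiniteLimits_tilde R
  have h₁ : (DCoh.tildeD R).IsLeftAdjoint := IndCoh.isLeftAdjoint_mapDerivedCategory (tilde.functor R)
  have h₂ := isLeftAdjoint_restrictD e.hom
  let T : DerivedCategory (ModuleCat.{u} R) ⥤ DCoh.D V := DCoh.tildeD R ⋙ DCoh.restrictD e.hom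
  let r := Scheme.Modules.restrictFunctor e.hom
  let r' := Scheme.Modules.restrictFunctor e.inv
  have hPT : GenerateMod.Closed (fun M => P (T.obj M)) :=
    { iso := fun {A B} i h => hP.iso (T.mapIso i) h
      tri₂ := fun S hS a b => hP.tri₂ _ (T.map_distinguished S hS) a b
      tri₃ := fun S hS a b => hP.tri₃ _ (T.map_distinguished S hS) a b
      sum := fun {ι} C c hc h =>
        hP.sum _ _ ((isColimitMapCoconeCofanMkEquiv T C c.inj)
          (isColimitOfPreserves T (hc.ofIsoColimit (Cofan.ext (Iso.refl _) fun i => by simp)))) h }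
  have hone' : ∀ n : ℤ, P (T.obj (DerivedCategory.Q.obj
      ((HomologicalComplex.single (ModuleCat.{u} R) (ComplexShape.up ℤ) n).obj (ModuleCat.of R R)))) := fun n => by
    refine hP.iso ?_ (hone n)
    refine DerivedCategory.Q.mapIso ?_ ≪≫ (r.mapDerivedCategoryFactors.app _).symm ≪≫
      (DCoh.restrictD e.hom).mapIso (((tilde.functor R).mapDerivedCategoryFactors.app _).symm)
    refine (HomologicalComplex.single _ _ n).mapIso ?_ ≪≫
      ((HomologicalComplex.singleMapHomologicalComplex r (ComplexShape.up ℤ) n).app _).symm ≪≫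
      (r.mapHomologicalComplex _).mapIso
        (((HomologicalComplex.singleMapHomologicalComplex (tilde.functor R) (ComplexShape.up ℤ) n).app _).symm)
    exact ((Scheme.Modules.restrictFunctorIsoPullback e.hom).app _ ≪≫ Groth.Agent.QCoh.pullbackUnitIso e.hom).symm
  let F := DerivedCategory.Q.objPreimage K
  have hF : DCoh.IsQCohD (DerivedCategory.Q.obj F) :=
    Groth.Agent.KFlat.QCohModel.isQCohD_of_iso (DerivedCategory.Q.objObjPreimageIso K).symm hK
  obtain ⟨M, ⟨i⟩⟩ := Groth.Agent.KFlat.TildeD.exists_iso_of_isQCohD (R := R)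
    (DerivedCategory.Q.obj ((Groth.Agent.KFlat.QCohModel.restrJ e.inv).obj F))
    (Groth.Agent.KFlat.QCohModel.isQCohD_restrJ e.inv hF)
  have hmem : P (T.obj M) := GenerateMod.mem hPT hone' M
  refine hP.iso ?_ hmem
  refine (DCoh.restrictD e.hom).mapIso i ≪≫ r.mapDerivedCategoryFactors.app _ ≪≫
    DerivedCategory.Q.mapIso ?_ ≪≫ DerivedCategory.Q.objObjPreimageIso K
  have : (r' ⋙ r).Additive := inferInstance
  exact (Groth.Agent.KFlat.RPushBase.mapCxComp r' r _ ≪≫
    NatIso.mapHomologicalComplex ((Scheme.Modules.restrictFunctorComp e.hom e.inv).symm ≪≫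
      Scheme.Modules.restrictFunctorCongr e.hom_inv_id ≪≫ Scheme.Modules.restrictFunctorId) _ ≪≫
    Functor.mapHomologicalComplexIdIso _ _).app F

end Groth.Agent.DEq.AffineGen
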