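import Groth.Agent.DEq.CompactSum
import Groth.Agent.CohDerLib.HComp.Bounded
import Groth.Agent.DHA.KInj.Products
import Groth.Agent.DHA.KInjectiveResolution
import Mathlib.Algebra.Homology.DerivedCategory.KProjective
import Mathlib.Algebra.Homology.GrothendieckAbelian
import Mathlib.Algebra.Category.ModuleCat.AB
import Mathlib.Algebra.Category.ModuleCat.Projective

/-!
# Compact objects of `D(R)`, `R` any ring

* `good_shift`, `good_obj₂`, `good_obj₃`: closure under shifts and triangles;
* `good_single_self`: the ring in one degree is compact;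
* `good_of_bounded`: bounded objects with compact cohomology modules are compact.
-/

set_option autoImplicit false

universe w v u

open CategoryTheory CategoryTheory.Limits Opposite CategoryTheory.Pretriangulated

attribute [local instance] HasDerivedCategory.standard

namespace Groth.Agent.DEq

section Tri

variable {D : Type u} [Category.{v} D] [Preadditive D] [HasZeroObject D] [HasShift D ℤ]
  [∀ n : ℤ, (shiftFunctor D n).Additive] [Pretriangulated D]

theorem good_shift {K : D} (h : Good.{w} K) (n : ℤ) : Good.{w} ((shiftFunctor D n).obj K) := by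
  intro J E c hc φ
  let e := shiftEquiv D n
  let c' : Cofan fun j => e.inverse.obj (E j) := Cofan.mk (e.inverse.obj c.pt) fun j => e.inverse.map (c.inj j)
  have hc' : IsColimit c' := isColimitCofanMkObjOfIsColimit e.inverse E _
    (hc.ofIsoColimit (Cofan.ext (Iso.refl _) fun j => Category.comp_id _))
  haveI : e.functor.Additive := inferInstanceAs (shiftFunctor D n).Additive
  let adj := e.toAdjunction
  let φ' : e.functor.obj K ⟶ c.pt := φ
  obtain ⟨s, y, hy⟩ := h J _ c' hc' (adj.homEquiv _ _ φ')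
  refine ⟨s, fun j => (adj.homEquiv _ _).symm (y j), ?_⟩
  have h2 : φ' = (adj.homEquiv K c.pt).symm (∑ j ∈ s, y j ≫ e.inverse.map (c.inj j)) :=
    ((adj.homEquiv K c.pt).symm_apply_apply φ').symm.trans (congrArg _ hy)
  refine h2.trans ?_
  rw [Adjunction.homEquiv_counit, Functor.map_sum, Preadditive.sum_comp]
  exact Finset.sum_congr rfl fun j _ =>
    (Adjunction.homEquiv_counit (adj := adj) (g := y j ≫ e.inverse.map (c.inj j))).symm.trans
      (Adjunction.homEquiv_naturality_right_symm adj (y j) (c.inj j))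

theorem good_obj₂ (T : Triangle D) (hT : T ∈ distinguishedTriangles)
    (h₁ : Good.{w} T.obj₁) (h₃ : Good.{w} T.obj₃) : Good.{w} T.obj₂ := by
  classical
  intro J E c hc φ
  let π : ∀ j, c.pt ⟶ E j := fun j =>
    Cofan.IsColimit.desc hc fun i => if hij : i = j then eqToHom (congrArg E hij) else 0
  have hπ : ∀ i j, c.inj i ≫ π j = if hij : i = j then eqToHom (congrArg E hij) else 0 :=
    fun i j => Cofan.IsColimit.fac hc _ i
  obtain ⟨s, y, hy⟩ := h₁ J E c hc (T.mor₁ ≫ φ)
  let p : c.pt ⟶ c.pt := ∑ j ∈ s, π j ≫ c.inj j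
  have hp : ∀ j ∈ s, c.inj j ≫ p = c.inj j := fun j hj => by
    simp only [p, Preadditive.comp_sum, ← Category.assoc, hπ]
    rw [Finset.sum_eq_single_of_mem j hj fun b _ hb => by rw [dif_neg (Ne.symm hb), zero_comp],
      dif_pos rfl, eqToHom_refl, Category.id_comp]
  have h0 : T.mor₁ ≫ (φ - φ ≫ p) = 0 := by
    rw [Preadditive.comp_sub, ← Category.assoc, hy, Preadditive.sum_comp, sub_eq_zero]
    exact (Finset.sum_congr rfl fun j hj => by rw [Category.assoc, hp j hj]).symm
  obtain ⟨ψ, hψ⟩ := T.yoneda_exact₂ hT _ h0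
  obtain ⟨t, z, hz⟩ := h₃ J E c hc ψ
  refine ⟨s ∪ t, fun j => (if j ∈ s then φ ≫ π j else 0) + (if j ∈ t then T.mor₂ ≫ z j else 0), ?_⟩
  simp only [Preadditive.add_comp, Finset.sum_add_distrib, ite_comp, zero_comp, Finset.sum_ite_mem,
    Finset.union_inter_cancel_left, Finset.union_inter_cancel_right]
  refine (eq_add_of_sub_eq hψ).trans ?_
  rw [hz, Preadditive.comp_sum, add_comm]
  simp only [p, Preadditive.comp_sum, Category.assoc]

theorem good_obj₃ (T : Triangle D) (hT : T ∈ distinguishedTriangles)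
    (h₁ : Good.{w} T.obj₁) (h₂ : Good.{w} T.obj₂) : Good.{w} T.obj₃ :=
  good_obj₂ T.rotate (rot_of_distTriang _ hT) h₂ (good_shift h₁ 1)

end Tri

section Mod

variable (R : Type u) [Ring R]

theorem nonempty_isColimit_Q {J : Type u} (L : J → CochainComplex (ModuleCat.{u} R) ℤ) :
    Nonempty (IsColimit (Cofan.mk (DerivedCategory.Q.obj (∐ L)) fun t => DerivedCategory.Q.map (Sigma.ι L t))) :=
  DHA.KInj.nonempty_isColimit_Q (fun M => by
    obtain ⟨I, f, h1, h2, -⟩ := DHA.KInj.exists_resolution (ModuleCat.{u} R) M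
    exact ⟨I, f, h1, h2⟩) L

variable {R}

/-- The ring in one degree is compact. -/
theorem good_single_self (n : ℤ) :
    Good.{u} ((DerivedCategory.singleFunctor (ModuleCat.{u} R) n).obj (ModuleCat.of R R)) := by
  classical
  intro J E c hc φ
  let P : CochainComplex (ModuleCat.{u} R) ℤ :=
    (HomologicalComplex.single (ModuleCat.{u} R) (ComplexShape.up ℤ) n).obj (ModuleCat.of R R)
  let eP : (DerivedCategory.singleFunctor (ModuleCat.{u} R) n).obj (ModuleCat.of R R) ≅ DerivedCategory.Q.obj P :=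
    (DerivedCategory.singleFunctorIsoCompQ (ModuleCat.{u} R) n).app _
  haveI : P.IsStrictlyLE n := inferInstance
  haveI : ∀ i, Projective (P.X i) := fun i => by
    by_cases h : i = n
    · subst h
      exact Projective.of_iso (HomologicalComplex.singleObjXSelf (ComplexShape.up ℤ) i (ModuleCat.of R R)).symm
        (ModuleCat.of R R).projective_of_categoryTheory_projective
    · exact (HomologicalComplex.isZero_single_obj_X _ _ _ _ h).projective
  haveI : P.IsKProjective := CochainComplex.isKProjective_of_projective P n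
  let L : J → CochainComplex (ModuleCat.{u} R) ℤ := fun j => DerivedCategory.Q.objPreimage (E j)
  let e : ∀ j, DerivedCategory.Q.obj (L j) ≅ E j := fun j => DerivedCategory.Q.objObjPreimageIso (E j)
  obtain ⟨hL⟩ := nonempty_isColimit_Q R L
  let g : DerivedCategory.Q.obj (∐ L) ⟶ c.pt := Cofan.IsColimit.desc hL fun j => (e j).hom ≫ c.inj j
  let g' : c.pt ⟶ DerivedCategory.Q.obj (∐ L) :=
    Cofan.IsColimit.desc hc fun j => (e j).inv ≫ DerivedCategory.Q.map (Sigma.ι L j)
  have hg : ∀ j, DerivedCategory.Q.map (Sigma.ι L j) ≫ g = (e j).hom ≫ c.inj j :=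
    fun j => Cofan.IsColimit.fac hL _ j
  have hgg : g' ≫ g = 𝟙 _ := Cofan.IsColimit.hom_ext hc _ _ fun j => by
    rw [Cofan.IsColimit.fac_assoc, Category.assoc, hg, Iso.inv_hom_id_assoc]
    exact (Category.comp_id _).symm
  obtain ⟨q, hq⟩ := (CochainComplex.IsKProjective.Qh_map_bijective P
    ((HomotopyCategory.quotient _ _).obj (∐ L))).surjective
      ((DerivedCategory.quotientCompQhIso (ModuleCat.{u} R)).hom.app P ≫ (eP.inv ≫ φ ≫ g') ≫
        (DerivedCategory.quotientCompQhIso (ModuleCat.{u} R)).inv.app (∐ L))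
  obtain ⟨f, rfl⟩ := (HomotopyCategory.quotient _ _).map_surjective q
  have hf : DerivedCategory.Q.map f = eP.inv ≫ φ ≫ g' := by
    have hn := (DerivedCategory.quotientCompQhIso (ModuleCat.{u} R)).hom.naturality f
    rw [Functor.comp_map, hq] at hn
    simpa using hn.symm
  let π : ∀ j, (∐ L) ⟶ L j := fun j =>
    Sigma.desc fun i => if hij : i = j then eqToHom (congrArg L hij) else 0
  let pr : Finset J → ((∐ L) ⟶ ∐ L) := fun s => ∑ j ∈ s, π j ≫ Sigma.ι L j
  have hpr : ∀ s, ∀ j ∈ s, Sigma.ι L j ≫ pr s = Sigma.ι L j := fun s j hj => by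
    simp only [pr, π, Preadditive.comp_sum, ← Category.assoc, Sigma.ι_desc]
    rw [Finset.sum_eq_single_of_mem j hj fun b _ hb => by rw [dif_neg (Ne.symm hb), zero_comp],
      dif_pos rfl, eqToHom_refl, Category.id_comp]
  have hmono : ∀ {s t : Finset J}, s ⊆ t → pr s ≫ pr t = pr s := fun {s t} hst => by
    change (∑ j ∈ s, π j ≫ Sigma.ι L j) ≫ pr t = _
    rw [Preadditive.sum_comp]
    exact Finset.sum_congr rfl fun j hj => by rw [Category.assoc, hpr t j (hst hj)]
  let S : Submodule R ((∐ L).X n) :=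
    { carrier := {x | ∃ s, ((pr s).f n).hom x = x}
      zero_mem' := ⟨∅, map_zero _⟩
      smul_mem' := fun r x ⟨s, hs⟩ => ⟨s, by rw [map_smul, hs]⟩
      add_mem' := fun {x y} ⟨s, hs⟩ ⟨t, ht⟩ => ⟨s ∪ t, by
        have h1 := congrArg (fun q : (∐ L) ⟶ ∐ L => (q.f n).hom x) (hmono (Finset.subset_union_left (s₁ := s) (s₂ := t)))
        have h2 := congrArg (fun q : (∐ L) ⟶ ∐ L => (q.f n).hom y) (hmono (Finset.subset_union_right (s₁ := s) (s₂ := t)))
        simp only [HomologicalComplex.comp_f, ModuleCat.hom_comp, LinearMap.comp_apply, hs, ht] at h1 h2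
        rw [map_add, h1, h2]⟩ }
  have hS : ∀ x, x ∈ S := fun x => by
    let m : (∐ L).X n ⟶ ModuleCat.of R ((∐ L).X n ⧸ S) := ModuleCat.ofHom S.mkQ
    have hc : IsColimit ((HomologicalComplex.eval _ _ n).mapCocone (Cofan.mk (∐ L) (Sigma.ι L))) :=
      isColimitOfPreserves (HomologicalComplex.eval (ModuleCat.{u} R) (ComplexShape.up ℤ) n)
        (coproductIsCoproduct L)
    have hm : m = 0 := hc.hom_ext fun ⟨i⟩ => ModuleCat.hom_ext (LinearMap.ext fun z =>
      (Submodule.Quotient.mk_eq_zero S).2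
        ⟨{i}, congrArg (fun q : L i ⟶ ∐ L => (q.f n).hom z) (hpr {i} i (Finset.mem_singleton_self i))⟩)
    exact (Submodule.Quotient.mk_eq_zero S).1 (congrArg (fun q => q.hom x) hm)
  let one : P.X n := (HomologicalComplex.singleObjXSelf (ComplexShape.up ℤ) n (ModuleCat.of R R)).inv.hom (1 : R)
  obtain ⟨s, hs⟩ := hS ((f.f n).hom one)
  have hfs : f ≫ pr s = f := by
    refine HomologicalComplex.from_single_hom_ext ?_
    rw [← cancel_epi (HomologicalComplex.singleObjXSelf (ComplexShape.up ℤ) n (ModuleCat.of R R)).inv]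
    exact ModuleCat.hom_ext (LinearMap.ext_ring hs)
  refine ⟨s, fun j => eP.hom ≫ DerivedCategory.Q.map (f ≫ π j) ≫ (e j).hom, ?_⟩
  have hφ : φ = eP.hom ≫ DerivedCategory.Q.map f ≫ g := by
    rw [hf, Category.assoc, Category.assoc, hgg, Iso.hom_inv_id_assoc, Category.comp_id]
  rw [hφ]
  conv_lhs => rw [← hfs]
  simp only [pr, Preadditive.comp_sum, Functor.map_sum, Preadditive.sum_comp]
  refine Finset.sum_congr rfl fun j _ => ?_
  simp only [Functor.map_comp, Category.assoc, hg]

/-- Bounded objects with compact cohomology modules are compact. -/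
theorem good_of_bounded (K : DerivedCategory (ModuleCat.{u} R)) (lo hi : ℤ) [K.IsGE lo] [K.IsLE hi]
    (hH : ∀ n : ℤ, lo ≤ n → Good.{u} ((DerivedCategory.singleFunctor (ModuleCat.{u} R) n).obj
      ((DerivedCategory.homologyFunctor (ModuleCat.{u} R) n).obj K))) : Good.{u} K := by
  let t := (DerivedCategory.TStructure.t (C := ModuleCat.{u} R))
  have key : ∀ (m : ℕ) (a : ℤ), a + m = hi + 1 → lo ≤ a → Good.{u} ((t.truncGE a).obj K) := by
    intro m
    induction m with
    | zero =>
      intro a ha _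
      have : t.IsLE K hi := inferInstanceAs (K.IsLE hi)
      exact Good.of_isZero (t.isZero_truncGE_obj_of_isLE hi a (by omega) K)
    | succ m ih =>
      intro a ha hlo
      obtain ⟨W, f, h, hT, ⟨e⟩⟩ := CohDerLib.HComp.fibre_truncGE K a (a + 1) rfl
      exact good_obj₂ _ hT (Good.of_iso ((DerivedCategory.singleFunctor (ModuleCat.{u} R) a).mapIso e) (hH a hlo))
        (ih (a + 1) (by omega) (by omega))
  by_cases hlh : lo ≤ hi + 1
  · obtain ⟨m, hm⟩ := Int.le.dest hlh
    have hge : t.IsGE K lo := inferInstanceAs (K.IsGE lo)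
    have := (t.isGE_iff_isIso_truncGEπ_app lo K).1 hge
    exact Good.of_iso (asIso ((t.truncGEπ lo).app K)) (key m lo hm le_rfl)
  · have : t.IsLE K hi := inferInstanceAs (K.IsLE hi)
    have : t.IsGE K lo := inferInstanceAs (K.IsGE lo)
    exact Good.of_isZero (t.isZero K hi lo (by omega))

end Mod

end Groth.Agent.DEq
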