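import Groth.Prelude.Def_W4stkfunctorsequivp2Beil
import Groth.Agent.DEq.CompactMod
import Mathlib.Algebra.Category.ModuleCat.Algebra
import Mathlib.Algebra.Category.ModuleCat.EpiMono
import Mathlib.RingTheory.MvPolynomial.Homogeneous
import Mathlib.LinearAlgebra.Dimension.Finite
import Mathlib.LinearAlgebra.FiniteDimensional.Basic
import Mathlib.LinearAlgebra.FiniteDimensional.Lemmas
import Mathlib.Algebra.Homology.ShortComplex.ModuleCat

/-!
# Finite-dimensional modules over the Beilinson algebra are compact in the derived category
-/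

set_option autoImplicit false

universe u

open CategoryTheory CategoryTheory.Limits MvPolynomial
open scoped ModuleCat

attribute [local instance] HasDerivedCategory.standard

namespace Groth.Agent.DEq.Beilinson

variable {k : Type u} [Field k] {n : ℕ}

local notation "B" => DEquiv.beilinsonAlg k n

variable (k) in
/-- The diagonal idempotent. -/
noncomputable def e (a : Fin (n + 1)) : B :=
  ⟨Matrix.diagonal fun b => if b = a then 1 else 0, fun i j => by
    refine ⟨fun h => ?_, ?_⟩
    · rw [Matrix.diagonal_apply_ne]
      intro hh; subst hh; exact lt_irrefl _ h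
    · by_cases h : i = j
      · subst h
        rw [Matrix.diagonal_apply_eq, Nat.sub_self]
        split_ifs
        · exact isHomogeneous_one _ _
        · exact isHomogeneous_zero _ _ _
      · rw [Matrix.diagonal_apply_ne _ h]
        exact isHomogeneous_zero _ _ _⟩

theorem coe_e (a : Fin (n + 1)) :
    (e k a : Matrix (Fin (n + 1)) (Fin (n + 1)) (MvPolynomial (Fin (n + 1)) k)) =
      Matrix.diagonal fun b => if b = a then 1 else 0 := rfl

theorem e_mul_apply (a : Fin (n + 1)) (r : B) (i l : Fin (n + 1)) :
    (e k a * r : B).1 i l = if i = a then r.1 i l else 0 := by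
  rw [MulMemClass.coe_mul, coe_e, Matrix.diagonal_mul, ite_mul, one_mul, zero_mul]

theorem mul_e_apply (a : Fin (n + 1)) (r : B) (i l : Fin (n + 1)) :
    (r * e k a : B).1 i l = if l = a then r.1 i l else 0 := by
  rw [MulMemClass.coe_mul, coe_e, Matrix.mul_diagonal, mul_ite, mul_one, mul_zero]

theorem e_mul_self (a : Fin (n + 1)) : (e k a * e k a : B) = e k a := by
  refine Subtype.ext (Matrix.ext fun i l => ?_)
  rw [e_mul_apply, coe_e, Matrix.diagonal_apply]
  split_ifs <;> simp_all

theorem sum_e : (∑ a, e k a : B) = 1 := by
  refine Subtype.ext (Matrix.ext fun i l => ?_)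
  rw [AddSubmonoidClass.coe_finsetSum, Matrix.sum_apply, OneMemClass.coe_one, Matrix.one_apply]
  simp only [coe_e, Matrix.diagonal_apply]
  split_ifs with h
  · simp
  · simp

theorem diag_eq_C (r : B) (a : Fin (n + 1)) : r.1 a a = C (constantCoeff (r.1 a a)) := by
  have h := (r.2 a a).2
  rw [Nat.sub_self] at h
  exact totalDegree_eq_zero_iff_eq_C.1 (Nat.le_zero.1 h.totalDegree_le)

/-- The diagonal character. -/
noncomputable def χ (a : Fin (n + 1)) : B →+* k where
  toFun r := constantCoeff (r.1 a a)
  map_one' := by simp
  map_zero' := by simp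
  map_add' r s := by simp
  map_mul' r s := by
    rw [MulMemClass.coe_mul, Matrix.mul_apply, Finset.sum_eq_single a, map_mul]
    · intro b _ hb
      rcases lt_or_gt_of_ne (fun h => hb (Fin.ext h) : (b : ℕ) ≠ a) with h | h
      · rw [(r.2 a b).1 h, zero_mul]
      · rw [(s.2 b a).1 h, mul_zero]
    · simp

theorem χ_algebraMap (a : Fin (n + 1)) (c : k) : χ a (algebraMap k B c) = c := by
  show constantCoeff ((algebraMap k (Matrix (Fin (n + 1)) (Fin (n + 1)) (MvPolynomial (Fin (n + 1)) k)) c) a a) = c
  rw [Matrix.algebraMap_matrix_apply, if_pos rfl, MvPolynomial.algebraMap_eq, constantCoeff_C]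

theorem algebraMap_mul_apply (c : k) (r : B) (i l : Fin (n + 1)) :
    (algebraMap k B c * r : B).1 i l = C c * r.1 i l := by
  rw [← Algebra.smul_def]
  show (c • r.1) i l = _
  rw [Matrix.smul_apply, MvPolynomial.smul_eq_C_mul]

theorem e_mul_eq (m : Fin (n + 1)) (r : B) :
    e k m * r = algebraMap k B (χ m r) * e k m + e k m * r * ∑ b ∈ Finset.univ.filter (fun b => m < b), e k b := by
  refine Subtype.ext (Matrix.ext fun i l => ?_)
  rw [Finset.mul_sum, AddMemClass.coe_add, Matrix.add_apply, AddSubmonoidClass.coe_finsetSum,
    Matrix.sum_apply, algebraMap_mul_apply, e_mul_apply, coe_e, Matrix.diagonal_apply]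
  simp only [mul_e_apply, e_mul_apply, Finset.sum_ite_eq, Finset.mem_filter, Finset.mem_univ, true_and]
  rcases eq_or_ne i m with rfl | him
  · rcases lt_trichotomy i l with h | rfl | h
    · simp [h, h.ne]
    · simp [← diag_eq_C, χ]
    · simp [(r.2 i l).1 h, h.not_gt, h.ne']
  · simp [him]

instance finite : Module.Finite k B := by
  let f : B →ₗ[k] ∀ (i j : Fin (n + 1)), homogeneousSubmodule (Fin (n + 1)) k ((j : ℕ) - i) :=
    { toFun := fun r i j => ⟨r.1 i j, (r.2 i j).2⟩
      map_add' := fun r s => rfl
      map_smul' := fun c r => rfl }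
  haveI : ∀ d, Module.Finite k (homogeneousSubmodule (Fin (n + 1)) k d) := fun d =>
    Module.Finite.iff_fg.2 (homogeneousSubmodule_fg _ _ d)
  exact Module.Finite.of_injective f fun r s h =>
    Subtype.ext (Matrix.ext fun i j => congrArg Subtype.val (congr_fun (congr_fun h i) j))

/-- The one-dimensional module at a vertex. -/
def SMod (_a : Fin (n + 1)) (k : Type u) : Type u := k

noncomputable instance (a : Fin (n + 1)) : AddCommGroup (SMod a k) := inferInstanceAs (AddCommGroup k)

noncomputable instance (a : Fin (n + 1)) : Module B (SMod a k) := Module.compHom k (χ a)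

/-- The scalar of an element of a simple module. -/
abbrev toK {a : Fin (n + 1)} (v : SMod a k) : k := v

theorem smul_smod (a : Fin (n + 1)) (r : B) (v : SMod a k) : toK (r • v) = χ a r * toK v := rfl

/-- Modules whose components vanish from `j` on. -/
def Bd (j : ℕ) (M : ModuleCat.{u} B) : Prop :=
  ∀ (a : Fin (n + 1)), j ≤ a → ∀ x : M, e k a • x = 0

theorem e_smul_eq {m : Fin (n + 1)} {M : ModuleCat.{u} B} (hM : Bd ((m : ℕ) + 1) M) (r : B) (x : M) :
    e k m • r • x = χ m r • (e k m • x) := by
  rw [← mul_smul, e_mul_eq, add_smul, mul_smul, mul_smul, Finset.sum_smul,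
    Finset.sum_eq_zero (s := Finset.univ.filter (fun b => m < b)) fun b hb =>
      hM b (Nat.succ_le_of_lt (Fin.lt_def.1 (Finset.mem_filter.1 hb).2)) x, smul_zero, add_zero]
  rfl

theorem good_of_ses {S : ShortComplex (ModuleCat.{u} B)} (hS : S.ShortExact)
    (h₁ : Good.{u} ((DerivedCategory.singleFunctor (ModuleCat.{u} B) 0).obj S.X₁))
    (h₃ : Good.{u} ((DerivedCategory.singleFunctor (ModuleCat.{u} B) 0).obj S.X₃)) :
    Good.{u} ((DerivedCategory.singleFunctor (ModuleCat.{u} B) 0).obj S.X₂) :=
  good_obj₂ _ hS.singleTriangle_distinguished h₁ h₃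

theorem finite_of_injective {M : ModuleCat.{u} B} (q : M →ₗ[B] B) (hq : Function.Injective q) :
    Module.Finite k M :=
  Module.Finite.of_injective
    ({ toFun := q
       map_add' := q.map_add
       map_smul' := fun c x => by
        show q (algebraMap k B c • x) = c • q x
        rw [q.map_smul, Algebra.smul_def, smul_eq_mul] } : M →ₗ[k] B) hq

/-- The short exact sequence of a surjection. -/
theorem ses_ker {M N : ModuleCat.{u} B} (f : M ⟶ N) (hf : Function.Surjective f.hom) :
    ∃ (w : ModuleCat.ofHom f.hom.ker.subtype ≫ f = 0),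
      (ShortComplex.mk (ModuleCat.ofHom f.hom.ker.subtype) f w).ShortExact := by
  have w : ModuleCat.ofHom f.hom.ker.subtype ≫ f = 0 := ModuleCat.hom_ext (LinearMap.ext fun x => x.2)
  refine ⟨w, { exact := ?_, mono_f := ?_, epi_g := ?_ }⟩
  · rw [ShortComplex.moduleCat_exact_iff]
    exact fun x hx => ⟨⟨x, hx⟩, rfl⟩
  · exact (ModuleCat.mono_iff_injective _).2 (Submodule.subtype_injective _)
  · exact (ModuleCat.epi_iff_surjective _).2 hf

theorem good_single (M : ModuleCat.{u} B) [hfd : Module.Finite k M] :
    Good.{u} ((DerivedCategory.singleFunctor (ModuleCat.{u} B) 0).obj M) := by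
  suffices main : ∀ (j : ℕ) (M : ModuleCat.{u} B), Module.Finite k M → Bd j M →
      Good.{u} ((DerivedCategory.singleFunctor (ModuleCat.{u} B) 0).obj M) from
    main (n + 1) M hfd fun a ha => absurd ha (not_le.2 a.2)
  intro j
  induction j with
  | zero =>
    intro M _ hM
    refine Good.of_isZero (Functor.map_isZero _ ?_)
    have : Subsingleton M := subsingleton_of_forall_eq 0 fun x => by
      rw [← one_smul B x, ← sum_e, Finset.sum_smul]
      exact Finset.sum_eq_zero fun a _ => hM a (Nat.zero_le _) x
    exact ModuleCat.isZero_of_subsingleton M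
  | succ j ih =>
    intro M hfd hM
    by_cases hj : j < n + 1
    swap
    · exact ih M hfd fun a ha => absurd a.2 (fun h => hj (lt_of_le_of_lt ha h))
    let m : Fin (n + 1) := ⟨j, hj⟩
    -- the simple module at `m`
    let P : Submodule B B := LinearMap.range (LinearMap.toSpanSingleton B B (e k m))
    have hP : ∀ r : P, (r : B) * e k m = r := fun ⟨r, s, hs⟩ => by
      subst hs
      show (s * e k m) * e k m = s * e k m
      rw [mul_assoc, e_mul_self]
    have hPgood : Good.{u} ((DerivedCategory.singleFunctor (ModuleCat.{u} B) 0).obj (ModuleCat.of B P)) :=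
      Good.of_retract
        { i := (DerivedCategory.singleFunctor (ModuleCat.{u} B) 0).map (ModuleCat.ofHom P.subtype)
          r := (DerivedCategory.singleFunctor (ModuleCat.{u} B) 0).map
            (ModuleCat.ofHom (LinearMap.toSpanSingleton B B (e k m)).rangeRestrict)
          retract := by
            rw [← Functor.map_comp, ← CategoryTheory.Functor.map_id]
            exact congrArg _ (ModuleCat.hom_ext (LinearMap.ext fun r => Subtype.ext (hP r))) }
        (good_single_self (R := B) 0)
    have hS : Good.{u} ((DerivedCategory.singleFunctor (ModuleCat.{u} B) 0).obj (ModuleCat.of B (SMod m k))) := by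
      let π : ModuleCat.of B P ⟶ ModuleCat.of B (SMod m k) := ModuleCat.ofHom
        { toFun := fun r => (χ (k := k) m (r : B) : k)
          map_add' := fun a b => (χ (k := k) m).map_add _ _
          map_smul' := fun c a => (χ (k := k) m).map_mul _ _ }
      have hπ : Function.Surjective π.hom := fun v =>
        ⟨⟨algebraMap k B (toK (k := k) (a := m) v) * e k m, _, rfl⟩, by
          show χ m (algebraMap k B (toK (k := k) (a := m) v) * e k m) = toK (k := k) (a := m) v
          rw [map_mul, χ_algebraMap]
          show toK (k := k) (a := m) v * constantCoeff ((e k m).1 m m) = toK (k := k) (a := m) v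
          simp [coe_e]⟩
      obtain ⟨w, hses⟩ := ses_ker π hπ
      refine good_obj₃ _ hses.singleTriangle_distinguished (ih _ ?_ ?_) hPgood
      · exact finite_of_injective (M := ModuleCat.of B π.hom.ker) (P.subtype.comp π.hom.ker.subtype)
          (P.subtype_injective.comp (Submodule.subtype_injective _))
      · rintro a ha ⟨⟨r, hr⟩, hr0⟩
        refine Subtype.ext (Subtype.ext (Subtype.ext (Matrix.ext fun i l => ?_)))
        show (e k a * r : B).1 i l = 0
        rw [e_mul_apply]
        split_ifs with hia
        swap
        · rfl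
        subst hia
        have hrm : (r * e k m : B) = r := hP ⟨r, hr⟩
        rw [← hrm, mul_e_apply]
        split_ifs with hlm
        swap
        · rfl
        subst hlm
        rcases (show (m : ℕ) ≤ i from ha).eq_or_lt with h | h
        · obtain rfl : m = i := Fin.ext h
          rw [diag_eq_C]
          have hc : χ m r = 0 := hr0
          show C (χ m r) = 0
          rw [hc, map_zero]
        · exact (r.2 i m).1 h
    -- induction on the dimension
    induction hd : Module.finrank k M using Nat.strong_induction_on generalizing M with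
    | _ d ihd =>
      let N : Submodule k M :=
        { carrier := {x | e k m • x = 0}
          zero_mem' := smul_zero _
          add_mem' := fun {x y} (hx : e k m • x = 0) (hy : e k m • y = 0) =>
            show e k m • (x + y) = 0 by rw [smul_add, hx, hy, add_zero]
          smul_mem' := fun c x (hx : e k m • x = 0) => show e k m • (algebraMap k B c • x) = 0 by
            rw [e_smul_eq hM, hx, smul_zero] }
      by_cases hN : N = ⊤
      · refine ih M hfd fun a ha x => ?_
        rcases ha.eq_or_lt with h | h
        · obtain rfl : a = m := Fin.ext h.symm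
          exact (hN ▸ Submodule.mem_top : x ∈ N)
        · exact hM a h x
      obtain ⟨f, hf0, hfN⟩ := Submodule.exists_le_ker_of_lt_top N (lt_top_iff_ne_top.2 hN)
      have hlin : ∀ (r : B) (x : M), f (r • x) = χ m r * f x := fun r x => by
        have h : r • x - χ m r • x ∈ N := by
          show e k m • (r • x - algebraMap k B (χ m r) • x) = 0
          rw [smul_sub, e_smul_eq hM, e_smul_eq hM, χ_algebraMap, sub_self]
        have h2 := hfN h
        rwa [LinearMap.mem_ker, map_sub, map_smul f (χ m r) x, smul_eq_mul, sub_eq_zero] at h2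
      let g : M ⟶ ModuleCat.of B (SMod m k) := ModuleCat.ofHom
        { toFun := fun x => (f x : k)
          map_add' := fun a b => f.map_add a b
          map_smul' := fun r x => hlin r x }
      obtain ⟨x₀, hx₀⟩ : ∃ x, f x ≠ 0 := by
        by_contra h
        push_neg at h
        exact hf0 (LinearMap.ext h)
      have hg : Function.Surjective g.hom := fun v => ⟨(toK (k := k) (a := m) v / f x₀) • x₀, by
        show f ((toK (k := k) (a := m) v / f x₀) • x₀) = toK (k := k) (a := m) v
        rw [map_smul, smul_eq_mul, div_mul_cancel₀ _ hx₀]⟩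
      obtain ⟨w, hses⟩ := ses_ker g hg
      let K := g.hom.ker.restrictScalars k
      refine good_of_ses hses (ihd (Module.finrank k K) ?_ _ ?_ ?_ rfl) hS
      · rw [← hd]
        exact Submodule.finrank_lt (s := K) fun h => hx₀ (show x₀ ∈ K from h ▸ Submodule.mem_top)
      · exact inferInstanceAs (Module.Finite k K)
      · exact fun a ha x => Subtype.ext (hM a ha x.1)

end Groth.Agent.DEq.Beilinson
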