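import Groth.Prelude.Def_CohB1
import Groth.Prelude.Def_PerfAux
import Groth.Agent.LimTop.StalkHom
import Groth.Agent.Props.SubExt
import Groth.Agent.Props.QApproxMain
import Groth.Agent.Props.QProj
import Groth.Agent.KFlat.TensorLocFree
import Groth.Agent.KFlat.StalkFlat
import Groth.Agent.PerfTri.Betti
import Groth.Agent.PinchLib.Modules
import Groth.Agent.SHomIso.Basic
import Groth.Agent.HomShQC.Basic
import Groth.Agent.AlgzW.UniformCover

/-!
# Box products surject onto finite type modules on a product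
-/

set_option autoImplicit false
set_option linter.style.haveILetI false

universe u

open CategoryTheory CategoryTheory.Limits AlgebraicGeometry TopologicalSpace Opposite

open Groth.Agent.PullStalk.Sky Groth.Agent.PullStalk.Exact Groth.Agent.Omega.Stalks Groth.Agent.QCoh
  Groth.Agent.KFlat.StalkTensor Groth.Agent.ExtFilt.Stalkwise

namespace Groth.Agent.DEq.Box

open Groth.Agent.LimTop (LHom cut toCut uncutSec cutSec)

/-- A finite type module on an affine open, generated by finitely many sections, through a finite locally free module. -/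
theorem exists_hom_hit {Y : Scheme.{u}} [CompactSpace Y] [QuasiSeparatedSpace Y]
    (hY : PerfAux.HasResolutionProperty Y) (M : Y.Modules) [M.IsQuasicoherent] (V : Y.Opens)
    (hV : IsAffineOpen V) (s : Γ(M, V)) :
    ∃ (E : Y.Modules) (φ : E ⟶ M), FlatMod.IsFinLocFree E ∧ ∃ t, φ.app V t = s := by
  obtain ⟨S, hS, t, ht⟩ := Groth.Agent.Props.SubExt.exists_sub_through_section M V hV s
  haveI hq : (Groth.Agent.Props.SubSheaf.sub S).IsQuasicoherent :=
    Groth.Agent.Props.SubSheaf.isQuasicoherent_sub hS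
  obtain ⟨E, π, hE, hπ⟩ := hY _ hq (Groth.Agent.Props.SubSheaf.isFiniteType_sub hS)
  haveI := Groth.Agent.PerfTri.Betti.isQuasicoherent_of_isFinLocFree hE
  obtain ⟨t', ht'⟩ := Groth.Agent.QCoh.app_surjective_of_epi π hV t
  refine ⟨E, π ≫ Groth.Agent.Props.SubSheaf.incl S, hE, t', ?_⟩
  rw [Scheme.Modules.Hom.comp_app, ConcreteCategory.comp_apply, ht', ht]

/-- Finite families of such maps combine into one. -/
theorem exists_hom_hit_all {Y : Scheme.{u}} [CompactSpace Y] [QuasiSeparatedSpace Y]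
    (hY : PerfAux.HasResolutionProperty Y) (M : Y.Modules) [M.IsQuasicoherent] {κ : Type u} [Finite κ]
    (V : κ → Y.Opens) (hV : ∀ c, IsAffineOpen (V c)) (s : ∀ c, Γ(M, V c)) :
    ∃ (E : Y.Modules) (φ : E ⟶ M), FlatMod.IsFinLocFree E ∧ ∀ c, ∃ t, φ.app (V c) t = s c := by
  classical
  choose E φ hE t ht using fun c => exists_hom_hit hY M (V c) (hV c) (s c)
  haveI := Fintype.ofFinite κ
  let n := Fintype.card κ
  let eq := (Fintype.equivFin κ).symm
  haveI : HasFiniteBiproducts Y.Modules := HasFiniteBiproducts.of_hasFiniteProducts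
  refine ⟨⨁ fun i : Fin n => E (eq i), biproduct.desc fun i => φ (eq i),
    Groth.Agent.KFlat.LocFree.isFinLocFree_of_iso
      (biproduct.isoCoproduct fun i : Fin n => E (eq i)).symm
      (Groth.Agent.KFlat.TensorLocFree.isFinLocFree_sigma _ Finset.univ
        (fun i hi => absurd (Finset.mem_univ i) hi) fun i => hE (eq i)), fun c => ?_⟩
  obtain ⟨i, rfl⟩ := eq.surjective c
  refine ⟨(biproduct.ι (fun i : Fin n => E (eq i)) i).app _ (t (eq i)), ?_⟩
  rw [← ConcreteCategory.comp_apply, ← Scheme.Modules.Hom.comp_app, biproduct.ι_desc]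
  exact ht (eq i)

section Cut

variable {P : Scheme.{u}} (W : P.Opens) (F : P.Modules)

theorem stalkLin_toCut_bijective (x : P) (hx : x ∈ W) : Function.Bijective (stalkLin (toCut W F) x) := by
  refine ⟨fun a b hab => ?_, fun t => ?_⟩
  · obtain ⟨V, hV, m, rfl⟩ := exists_germM_eq F x a
    obtain ⟨V', hV', m', rfl⟩ := exists_germM_eq F x b
    rw [stalkLin_germ, stalkLin_germ] at hab
    obtain ⟨O, hO, iV, iV', e⟩ := (cut W F).presheaf.germ_eq x hV hV' _ _ hab
    have e' : (toCut W F).app O (res F iV.le m) = (toCut W F).app O (res F iV'.le m') :=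
      ((NatTrans.naturality_apply (toCut W F).mapPresheaf iV.op m).trans e).trans
        (NatTrans.naturality_apply (toCut W F).mapPresheaf iV'.op m').symm
    have e'' := congrArg uncutSec e'
    rw [LimTop.uncut_toCut, LimTop.uncut_toCut] at e''
    have h3 := congrArg (germM F (O ⊓ W) x ⟨hO, hx⟩) e''
    rwa [LimTop.germM_res, LimTop.germM_res, LimTop.germM_res, LimTop.germM_res] at h3
  · obtain ⟨V, hV, m, rfl⟩ := exists_germM_eq (cut W F) x t
    refine ⟨germM F (V ⊓ W) x ⟨hV, hx⟩ (uncutSec m), ?_⟩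
    rw [stalkLin_germ, ← LimTop.germM_res (cut W F) (inf_le_left : V ⊓ W ≤ V) m x ⟨hV, hx⟩]
    congr 1
    refine LimTop.uncut_injective (W := W) (N := F) ?_
    rw [LimTop.uncut_toCut, LimTop.uncut_res]

/-- The inverse of `F → j_* j^* F` over `W`. -/
noncomputable def fromCut : LHom W (cut W F) F where
  toFun x hx := (LinearEquiv.ofBijective _ (stalkLin_toCut_bijective W F x hx)).symm.toLinearMap
  exists_sec V s x hx hxW := ⟨V ⊓ W, inf_le_left, inf_le_right, ⟨hx, hxW⟩, uncutSec s, fun y hy => by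
    refine (LinearEquiv.eq_symm_apply _).2 ?_
    show stalkLin (toCut W F) y _ = _
    rw [stalkLin_germ, ← LimTop.germM_res (cut W F) (inf_le_left : V ⊓ W ≤ V) s y hy]
    congr 1
    refine LimTop.uncut_injective (W := W) (N := F) ?_
    rw [LimTop.uncut_toCut, LimTop.uncut_res]⟩

theorem fromCut_surjective (x : P) (hx : x ∈ W) : Function.Surjective ((fromCut W F).toFun x hx) :=
  (LinearEquiv.ofBijective _ (stalkLin_toCut_bijective W F x hx)).symm.surjective

end Cut

variable {P X Y : Scheme.{u}}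

/-- Over an open `W` of `P` with `W ∩ q⁻¹V` affine for affine `V`, the module `F` is a quotient of some `q^* G`. -/
theorem exists_surj_over (q : P ⟶ Y) [QuasiCompact q] [QuasiSeparated q] [CompactSpace Y] [QuasiSeparatedSpace Y]
    [QuasiSeparatedSpace P] (hY : PerfAux.HasResolutionProperty Y) (F : P.Modules) [F.IsQuasicoherent]
    [SheafOfModules.IsFiniteType.{u} F] (W : P.Opens) (hWc : IsCompact (W : Set P))
    (hW : ∀ V : Y.Opens, IsAffineOpen V → IsAffineOpen (W ⊓ q ⁻¹ᵁ V)) :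
    ∃ (G : Y.Modules) (l : LHom W ((Scheme.Modules.pullback q).obj G) F), FlatMod.IsFinLocFree G ∧
      ∀ (y : P) (hy : y ∈ W), Function.Surjective (l.toFun y hy) := by
  classical
  haveI : Fact (IsCompact (W : Set P)) := ⟨hWc⟩
  let H := cut W F
  let M := (Scheme.Modules.pushforward q).obj H
  haveI : M.IsQuasicoherent := Groth.Agent.QCoh.isQuasicoherent_pushforward q H
  obtain ⟨σ, hσ⟩ := Groth.Agent.Props.QApproxMain.exists_affine_finite_cover Y
  choose gen hgen using fun V : σ =>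
    (Groth.Agent.QCoh.finite_sections_of_isFiniteType F (hW V.1.1 V.1.2)).fg_top
  let κ := (V : σ) × {g // g ∈ gen V}
  obtain ⟨G, φ, hG, hhit⟩ := exists_hom_hit_all hY M (fun c : κ => c.1.1.1) (fun c => c.1.1.2)
    (fun c => (cutSec (res F (le_of_eq (inf_comm _ _)) c.2.1) : Γ(H, q ⁻¹ᵁ c.1.1.1)))
  let adj := Scheme.Modules.pullbackPushforwardAdjunction q
  let ψ : (Scheme.Modules.pullback q).obj G ⟶ H := (adj.homEquiv G H).symm φ
  have hψ : adj.unit.app G ≫ (Scheme.Modules.pushforward q).map ψ = φ :=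
    (adj.homEquiv_unit G H ψ).symm.trans ((adj.homEquiv G H).apply_symm_apply φ)
  refine ⟨G, (LHom.ofHom W ψ).trans (fromCut W F), hG, fun y hy => ?_⟩
  refine (fromCut_surjective W F y hy).comp ?_
  intro t
  obtain ⟨V, hV, hqy⟩ := hσ (q y)
  let U : P.Opens := W ⊓ q ⁻¹ᵁ V.1
  have hyU : y ∈ U := ⟨hy, hqy⟩
  obtain ⟨t₀, rfl⟩ := (stalkLin_toCut_bijective W F y hy).2 t
  let R := LinearMap.range (stalkLin ψ y)
  show stalkLin (toCut W F) y t₀ ∈ R
  have hgens : ∀ g ∈ gen ⟨V, hV⟩, stalkLin (toCut W F) y (germM F U y hyU g) ∈ R := by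
    intro g hg
    obtain ⟨w, hw⟩ := hhit ⟨⟨V, hV⟩, ⟨g, hg⟩⟩
    rw [← hψ] at hw
    refine ⟨germM _ (q ⁻¹ᵁ V.1) y hqy ((adj.unit.app G).app V.1 w), ?_⟩
    rw [stalkLin_germ, stalkLin_germ]
    refine (congrArg (germM H (q ⁻¹ᵁ V.1) y hqy) hw).trans ?_
    rw [← LimTop.germM_res H (inf_le_right : U ≤ q ⁻¹ᵁ V.1) _ y hyU]
    congr 1
    refine LimTop.uncut_injective (W := W) (N := F) ?_
    rw [LimTop.uncut_toCut, LimTop.uncut_res, LimTop.uncut_cut]
    exact res_res F _ _ g
  have hspan : ∀ g ∈ Submodule.span Γ(P, U) (gen ⟨V, hV⟩ : Set Γ(F, U)),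
      stalkLin (toCut W F) y (germM F U y hyU g) ∈ R := by
    intro g hg
    induction hg using Submodule.span_induction with
    | mem g hg => exact hgens g hg
    | zero =>
      show stalkLin (toCut W F) y ((F.presheaf.germ U y hyU).hom 0) ∈ R
      rw [map_zero, map_zero]; exact R.zero_mem
    | add a b _ _ ha hb =>
      show stalkLin (toCut W F) y ((F.presheaf.germ U y hyU).hom (a + b)) ∈ R
      rw [map_add, map_add]; exact R.add_mem ha hb
    | smul r a _ ha => rw [germM_smul, map_smul]; exact R.smul_mem _ ha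
  -- germs of sections over the affine `U` generate the stalk
  have h0 : R.mkQ.comp (stalkLin (toCut W F) y) = 0 :=
    LimTop.stalk_hom_ext (hW V.1 V.2) hyU _ _ fun m =>
      (Submodule.Quotient.mk_eq_zero R).2 (hspan m ((hgen ⟨V, hV⟩).symm ▸ Submodule.mem_top))
  exact (Submodule.Quotient.mk_eq_zero R).1 (LinearMap.congr_fun h0 t₀)

open MonoidalCategory in
/-- The braiding of two modules. -/
noncomputable def braid (A B : P.Modules) : CohB1.tensorMod B A ≅ tensM A B :=
  ((Groth.Agent.KFlat.tensorBiFlipIso P.sheaf).app A).app B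

theorem stalkLin_iso_surjective {A B : P.Modules} (e : A ≅ B) (y : P) : Function.Surjective (stalkLin e.hom y) :=
  fun t => ⟨stalkLin e.inv y t, by rw [← stalkLin_comp, e.inv_hom_id, LimTop.stalkLin_id]⟩

/-- A box product surjecting onto `F` over the preimage of an affine open of the first factor. -/
theorem exists_box_over (p : P ⟶ X) (q : P ⟶ Y) [QuasiCompact p] [QuasiSeparated p] [QuasiCompact q]
    [QuasiSeparated q] [CompactSpace X] [QuasiSeparatedSpace X] [CompactSpace Y] [QuasiSeparatedSpace Y]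
    [QuasiSeparatedSpace P] (hX : PerfAux.HasResolutionProperty X) (hY : PerfAux.HasResolutionProperty Y)
    (F : P.Modules) [hFq : F.IsQuasicoherent] [SheafOfModules.IsFiniteType.{u} F] (U : X.Opens)
    (hU : IsAffineOpen U) (hW : ∀ V : Y.Opens, IsAffineOpen V → IsAffineOpen (p ⁻¹ᵁ U ⊓ q ⁻¹ᵁ V)) :
    ∃ (E : X.Modules) (G : Y.Modules) (τ : CohB1.tensorMod ((Scheme.Modules.pullback p).obj E)
        ((Scheme.Modules.pullback q).obj G) ⟶ F), FlatMod.IsFinLocFree E ∧ FlatMod.IsFinLocFree G ∧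
      ∀ y ∈ p ⁻¹ᵁ U, Function.Surjective (stalkLin τ y) := by
  classical
  let W := p ⁻¹ᵁ U
  have hWc : IsCompact (W : Set P) := QuasiCompact.isCompact_preimage _ U.2 hU.isCompact
  obtain ⟨G, l, hG, hl⟩ := exists_surj_over q hY F W hWc hW
  let A := (Scheme.Modules.pullback q).obj G
  haveI := Groth.Agent.PerfTri.Betti.isQuasicoherent_of_isFinLocFree hG
  haveI : A.IsQuasicoherent := Groth.Agent.QCoh.isQuasicoherent_pullback q G
  have hA : CohB1.IsFP A := Props.QProj.isFP A (Groth.Agent.KFlat.LocFree.isFinLocFree_pull q hG)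
  haveI : (RefHull.homSh A F).IsQuasicoherent := HomShQC.isQuasicoherent_homSh A F hA hFq
  let M := (Scheme.Modules.pushforward p).obj (RefHull.homSh A F)
  haveI : M.IsQuasicoherent := Groth.Agent.QCoh.isQuasicoherent_pushforward p _
  let h : Γ(RefHull.homSh A F, W) := ⟨fun y => l.toFun y.1 y.2, fun V i m x => by
    obtain ⟨V', hV', hW', hx', t, ht⟩ := l.exists_sec V m x.1 x.2 (i.le x.2)
    exact ⟨V', hx', homOfLE hV', t, fun y => (ht y.1 y.2).symm⟩⟩
  obtain ⟨E, φ, hE, w₀, hw₀⟩ := exists_hom_hit hX M U hU h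
  let adj := Scheme.Modules.pullbackPushforwardAdjunction p
  let B := (Scheme.Modules.pullback p).obj E
  let ψ : B ⟶ RefHull.homSh A F := (adj.homEquiv E _).symm φ
  have hψ : adj.unit.app E ≫ (Scheme.Modules.pushforward p).map ψ = φ :=
    (adj.homEquiv_unit E _ ψ).symm.trans ((adj.homEquiv E _).apply_symm_apply φ)
  let w : Γ(B, W) := (adj.unit.app E).app U w₀
  have hw : ψ.app W w = h := by rw [← hψ] at hw₀; exact hw₀
  obtain ⟨ev, hev⟩ := exists_hom (SHomIso.Basic.loc_evFun A F)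
  let T : tensM A B ⟶ F := ((DCoh.tensorBi (X := P)).obj A).map ψ ≫ ev
  refine ⟨E, G, (braid A B).hom ≫ T, hE, hG, fun y hy t => ?_⟩
  obtain ⟨a, rfl⟩ := hl y hy t
  obtain ⟨O, hO, m, rfl⟩ := exists_germM_eq A y a
  have hyO : y ∈ O ⊓ W := ⟨hO, hy⟩
  let z : Γ(tensM A B, O ⊓ W) := tmulSec (O ⊓ W) (res A inf_le_left m) (res B inf_le_right w)
  obtain ⟨z', hz'⟩ := stalkLin_iso_surjective (braid A B) y (germM (tensM A B) (O ⊓ W) y hyO z)
  refine ⟨z', ?_⟩
  rw [stalkLin_comp, hz', stalkLin_germ]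
  show germM F (O ⊓ W) y hyO (ev.app _ ((((DCoh.tensorBi (X := P)).obj A).map ψ).app _ z)) = _
  rw [ExtHom.tensorBi_map_tmulSec]
  refine (stalkLin_germ ev _ y hyO _).symm.trans ((hev y _).trans
    ((SHomIso.Basic.evFun_tgerm A F y hyO _ _).trans ?_))
  have hres : ψ.app (O ⊓ W) (res B inf_le_right w) = res (RefHull.homSh A F) inf_le_right h := by
    rw [← hw]
    exact NatTrans.naturality_apply ψ.mapPresheaf (homOfLE (inf_le_right : O ⊓ W ≤ W)).op w
  rw [hres]
  show l.toFun y _ (germM A (O ⊓ W) y hyO (res A inf_le_left m)) = _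
  rw [LimTop.germM_res]

theorem bifunctor_comp {C D E : Type*} [Category C] [Category D] [Category E] (F : C ⥤ D ⥤ E) {A A' A'' : C}
    {B B' B'' : D} (f : A ⟶ A') (f' : A' ⟶ A'') (g : B ⟶ B') (g' : B' ⟶ B'') :
    ((F.map f).app B ≫ (F.obj A').map g) ≫ (F.map f').app B' ≫ (F.obj A'').map g' =
      (F.map (f ≫ f')).app B ≫ (F.obj A'').map (g ≫ g') := by
  simp

theorem bifunctor_id {C D E : Type*} [Category C] [Category D] [Category E] (F : C ⥤ D ⥤ E) (A : C) (B : D) :
    (F.map (𝟙 A)).app B ≫ (F.obj A).map (𝟙 B) = 𝟙 _ := by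
  simp

theorem bifunctor_zero {C D E : Type*} [Category C] [Category D] [Category E] [Preadditive D] [Preadditive E]
    (F : C ⥤ D ⥤ E) {A A' : C} (f : A ⟶ A') [(F.obj A').Additive] (B B' : D) :
    (F.map f).app B ≫ (F.obj A').map (0 : B ⟶ B') = 0 := by
  simp

open Groth.Agent.KFlat.StalkTensor in
theorem tensMap_comp {A A' A'' B B' B'' : P.Modules} (f : A ⟶ A') (f' : A' ⟶ A'') (g : B ⟶ B') (g' : B' ⟶ B'') :
    tensMap f g ≫ tensMap f' g' = tensMap (f ≫ f') (g ≫ g') :=
  bifunctor_comp (ModSite.tensorBi P.sheaf) f f' g g'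

/-- A module of finite type on `P` is a quotient of a single box product, when the preimages of affine
opens of the two factors meet in affine opens. -/
theorem exists_box (p : P ⟶ X) (q : P ⟶ Y) [QuasiCompact p] [QuasiSeparated p] [QuasiCompact q]
    [QuasiSeparated q] [CompactSpace X] [QuasiSeparatedSpace X] [CompactSpace Y] [QuasiSeparatedSpace Y]
    [QuasiSeparatedSpace P] (hX : PerfAux.HasResolutionProperty X) (hY : PerfAux.HasResolutionProperty Y)
    (F : P.Modules) [F.IsQuasicoherent] [SheafOfModules.IsFiniteType.{u} F]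
    (hW : ∀ (U : X.Opens) (V : Y.Opens), IsAffineOpen U → IsAffineOpen V → IsAffineOpen (p ⁻¹ᵁ U ⊓ q ⁻¹ᵁ V)) :
    ∃ (E : X.Modules) (G : Y.Modules), FlatMod.IsFinLocFree E ∧ FlatMod.IsFinLocFree G ∧
      ∃ τ : CohB1.tensorMod ((Scheme.Modules.pullback p).obj E) ((Scheme.Modules.pullback q).obj G) ⟶ F,
        Epi τ := by
  classical
  obtain ⟨σ, hσ⟩ := Groth.Agent.Props.QApproxMain.exists_affine_finite_cover X
  choose E G τ hE hG hτ using fun U : σ =>
    exists_box_over p q hX hY F U.1.1 U.1.2 fun V hV => hW U.1.1 V U.1.2 hV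
  let n := Fintype.card σ
  let eq := (Fintype.equivFin σ).symm
  haveI : HasFiniteBiproducts X.Modules := HasFiniteBiproducts.of_hasFiniteProducts
  haveI : HasFiniteBiproducts Y.Modules := HasFiniteBiproducts.of_hasFiniteProducts
  let E' := ⨁ fun i : Fin n => E (eq i)
  let G' := ⨁ fun i : Fin n => G (eq i)
  have hE' : FlatMod.IsFinLocFree E' :=
    Groth.Agent.KFlat.LocFree.isFinLocFree_of_iso
      (biproduct.isoCoproduct fun i : Fin n => E (eq i)).symm
      (Groth.Agent.KFlat.TensorLocFree.isFinLocFree_sigma _ Finset.univ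
        (fun i hi => absurd (Finset.mem_univ i) hi) fun i => hE (eq i))
  have hG' : FlatMod.IsFinLocFree G' :=
    Groth.Agent.KFlat.LocFree.isFinLocFree_of_iso
      (biproduct.isoCoproduct fun i : Fin n => G (eq i)).symm
      (Groth.Agent.KFlat.TensorLocFree.isFinLocFree_sigma _ Finset.univ
        (fun i hi => absurd (Finset.mem_univ i) hi) fun i => hG (eq i))
  let Lp := Scheme.Modules.pullback p
  let Lq := Scheme.Modules.pullback q
  let r : ∀ i, tensM (Lp.obj E') (Lq.obj G') ⟶ tensM (Lp.obj (E (eq i))) (Lq.obj (G (eq i))) := fun i =>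
    Groth.Agent.KFlat.StalkTensor.tensMap (Lp.map (biproduct.π (fun i : Fin n => E (eq i)) i)) (Lq.map (biproduct.π (fun i : Fin n => G (eq i)) i))
  let s : ∀ i, tensM (Lp.obj (E (eq i))) (Lq.obj (G (eq i))) ⟶ tensM (Lp.obj E') (Lq.obj G') := fun i =>
    Groth.Agent.KFlat.StalkTensor.tensMap (Lp.map (biproduct.ι (fun i : Fin n => E (eq i)) i)) (Lq.map (biproduct.ι (fun i : Fin n => G (eq i)) i))
  have hsr : ∀ i, s i ≫ r i = 𝟙 _ := fun i => by
    simp only [r, s, tensMap_comp, ← Functor.map_comp, biproduct.ι_π_self, CategoryTheory.Functor.map_id]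
    exact bifunctor_id (ModSite.tensorBi P.sheaf) _ _
  have hsr0 : ∀ i j, i ≠ j → s i ≫ r j = 0 := fun i j h => by
    simp only [r, s, tensMap_comp, ← Functor.map_comp, biproduct.ι_π_ne _ h, Functor.map_zero]
    exact bifunctor_zero (ModSite.tensorBi P.sheaf) _ _ _
  let τ' : ∀ i, tensM (Lp.obj (E (eq i))) (Lq.obj (G (eq i))) ⟶ F := fun i => τ (eq i)
  let T : tensM (Lp.obj E') (Lq.obj G') ⟶ F := ∑ i, r i ≫ τ' i
  have hT : ∀ i, s i ≫ T = τ' i := fun i => by
    rw [Preadditive.comp_sum, Finset.sum_eq_single i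
      (fun j _ hj => by rw [← Category.assoc, hsr0 i j (Ne.symm hj), zero_comp])
      (fun hi => absurd (Finset.mem_univ i) hi), ← Category.assoc, hsr, Category.id_comp]
  refine ⟨E', G', hE', hG', T, epi_of_stalk fun y t => ?_⟩
  obtain ⟨U, hU, hy⟩ := hσ (p y)
  obtain ⟨i, hi⟩ := eq.surjective ⟨U, hU⟩
  obtain ⟨a, ha⟩ := hτ (eq i) y (show p y ∈ (eq i).1.1 by rw [hi]; exact hy) t
  refine ⟨stalkLin (s i) y a, ?_⟩
  exact (stalkLin_comp (s i) T y a).symm.trans ((congrArg (fun f => stalkLin f y a) (hT i)).trans ha)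

end Groth.Agent.DEq.Box
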