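import Groth.Agent.DEq.CompactMod
import Mathlib.LinearAlgebra.Basis.VectorSpace
import Mathlib.Algebra.Algebra.RestrictScalars
import Mathlib.Algebra.Category.ModuleCat.Algebra
import Mathlib.Algebra.BigOperators.Finprod
import Mathlib.RingTheory.Finiteness.Basic
import Mathlib.LinearAlgebra.FiniteDimensional.Defs

/-!
# Compact objects of `D(R)` for a finite-dimensional algebra have finite-dimensional cohomology
-/

set_option autoImplicit false

universe u

open CategoryTheory CategoryTheory.Limits
open scoped ModuleCat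

attribute [local instance] HasDerivedCategory.standard

namespace Groth.Agent.DEq

variable (k : Type u) [Field k] (R : Type u) [Ring R] [Algebra k R]

/-- The dual `Hom_k(R, k)` with the left action coming from right multiplication. -/
def Coind : Type u := R →ₗ[k] k

instance : AddCommGroup (Coind k R) := inferInstanceAs (AddCommGroup (R →ₗ[k] k))

variable {k R} in
/-- The underlying functional. -/
abbrev toLin (f : Coind k R) : R →ₗ[k] k := f

instance : Module R (Coind k R) where
  smul r f := (toLin f).comp (LinearMap.mulRight k r)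
  one_smul f := LinearMap.ext fun x => by
    show toLin f (x * 1) = toLin f x
    rw [mul_one]
  mul_smul r s f := LinearMap.ext fun x => by
    show toLin f (x * (r * s)) = toLin f (x * r * s)
    rw [mul_assoc]
  smul_zero r := LinearMap.ext fun _ => rfl
  smul_add r f g := LinearMap.ext fun _ => rfl
  add_smul r s f := LinearMap.ext fun x => by
    show toLin f (x * (r + s)) = toLin f (x * r) + toLin f (x * s)
    rw [mul_add, map_add]
  zero_smul f := LinearMap.ext fun x => by
    show toLin f (x * 0) = 0
    rw [mul_zero, map_zero]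

variable {k R}

/-- A functional gives a map to the coinduced module. -/
noncomputable def toCoind {M : ModuleCat.{u} R} (f : M →ₗ[k] k) : M →ₗ[R] Coind k R where
  toFun m := f.comp ((LinearMap.toSpanSingleton R M m).restrictScalars k)
  map_add' a b := LinearMap.ext fun r => by
    show f (r • (a + b)) = f (r • a) + f (r • b)
    rw [smul_add, map_add]
  map_smul' r m := LinearMap.ext fun x => by
    show f (x • r • m) = f ((x * r) • m)
    rw [mul_smul]

theorem toCoind_apply {M : ModuleCat.{u} R} (f : M →ₗ[k] k) (m : M) (r : R) :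
    toLin (toCoind f m) r = f (r • m) := rfl

/-- The cohomology of a compact object: finitely many nonzero, all finite-dimensional. -/
theorem findim_of_good [Module.Finite k R] (K : DerivedCategory (ModuleCat.{u} R)) (hK : Good.{u} K) :
    (∀ i : ℤ, Module.Finite k (RestrictScalars k R ((DerivedCategory.homologyFunctor (ModuleCat.{u} R) i).obj K))) ∧
      Set.Finite {i : ℤ | Nontrivial ((DerivedCategory.homologyFunctor (ModuleCat.{u} R) i).obj K)} := by
  classical
  let P := DerivedCategory.Q.objPreimage K
  let e : DerivedCategory.Q.obj P ≅ K := DerivedCategory.Q.objObjPreimageIso K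
  let b : ∀ i, Module.Basis (Module.Basis.ofVectorSpaceIndex k (P.homology i : ModuleCat.{u} R)) k
      (P.homology i : ModuleCat.{u} R) := fun i => Module.Basis.ofVectorSpace k _
  let J : Type u := Σ i : ℤ, Module.Basis.ofVectorSpaceIndex k (P.homology i : ModuleCat.{u} R)
  let ι' : ∀ i, (P.homology i : ModuleCat.{u} R) →ₗ[k] (P.opcycles i : ModuleCat.{u} R) := fun i =>
    (P.homologyι i).hom.restrictScalars k
  have hinj : ∀ i, Function.Injective (ι' i) := fun i =>
    (ModuleCat.mono_iff_injective (P.homologyι i)).1 inferInstance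
  choose ρ hρ using fun i => (ι' i).exists_leftInverse_of_injective (LinearMap.ker_eq_bot.2 (hinj i))
  let cof : ∀ a : J, (P.opcycles a.1 : ModuleCat.{u} R) →ₗ[k] k := fun a =>
    ((b a.1).coord a.2).comp (ρ a.1)
  let L : J → CochainComplex (ModuleCat.{u} R) ℤ := fun a =>
    (HomologicalComplex.single (ModuleCat.{u} R) (ComplexShape.up ℤ) a.1).obj (ModuleCat.of R (Coind k R))
  let C := ∐ L
  let cm : ∀ (d : ℤ) (j : Module.Basis.ofVectorSpaceIndex k (P.homology d : ModuleCat.{u} R)),
      P.opcycles d ⟶ (L ⟨d, j⟩).X d := fun d j =>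
    (show P.opcycles d ⟶ ModuleCat.of R (Coind k R) from ModuleCat.ofHom (toCoind (cof ⟨d, j⟩))) ≫
      (HomologicalComplex.singleObjXSelf (ComplexShape.up ℤ) d (ModuleCat.of R (Coind k R))).inv
  have hcm : ∀ d j (o : (P.opcycles d : ModuleCat.{u} R)), (cm d j).hom o =
      (HomologicalComplex.singleObjXSelf (ComplexShape.up ℤ) d (ModuleCat.of R (Coind k R))).inv.hom
        (toCoind (cof ⟨d, j⟩) o) := fun _ _ _ => rfl
  let inc : ∀ (d : ℤ) (j : Module.Basis.ofVectorSpaceIndex k (P.homology d : ModuleCat.{u} R)),
      P.X d ⟶ C.X d := fun d j => P.pOpcycles d ≫ cm d j ≫ (Sigma.ι L ⟨d, j⟩).f d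
  have hfin : ∀ (d : ℤ) (x : P.X d), (Function.support fun j => (inc d j).hom x).Finite := fun d x => by
    obtain ⟨t, ht⟩ := Module.finite_def.1 ‹Module.Finite k R›
    refine (t.biUnion fun r => ((b d).repr (ρ d (r • (P.pOpcycles d).hom x))).support).finite_toSet.subset
      fun j hj => Classical.not_not.1 fun hj' => hj ?_
    have h0 : toCoind (cof ⟨d, j⟩) ((P.pOpcycles d).hom x) = 0 := by
      refine LinearMap.ext_on (s := (t : Set R)) ht fun r hr => ?_
      refine (toCoind_apply _ _ r).trans ?_
      exact Finsupp.notMem_support_iff.1 fun h => hj' (Finset.mem_biUnion.2 ⟨r, hr, h⟩)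
    show ((Sigma.ι L ⟨d, j⟩).f d).hom ((cm d j).hom ((P.pOpcycles d).hom x)) = 0
    rw [hcm, h0, map_zero, map_zero]
  let Φd : ∀ d, P.X d ⟶ C.X d := fun d => ModuleCat.ofHom
    { toFun := fun x => ∑ᶠ j, (inc d j).hom x
      map_add' := fun x y => by
        rw [← finsum_add_distrib (hfin d x) (hfin d y)]
        exact finsum_congr fun j => (inc d j).hom.map_add x y
      map_smul' := fun r x => by
        rw [RingHom.id_apply, smul_finsum' r (hfin d x)]
        exact finsum_congr fun j => (inc d j).hom.map_smul r x }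
  have hinc_d : ∀ d d' j, inc d j ≫ C.d d d' = 0 := fun d d' j => by
    simp only [inc, Category.assoc, C, HomologicalComplex.Hom.comm]
    simp [L]
  have hd_inc : ∀ d d' j, P.d d d' ≫ inc d' j = 0 := fun d d' j => by
    simp [inc]
  let Φ : P ⟶ C :=
    { f := Φd
      comm' := fun d d' _ => by
        refine ModuleCat.hom_ext (LinearMap.ext fun x => ?_)
        show (C.d d d').hom (∑ᶠ j, (inc d j).hom x) = ∑ᶠ j, (inc d' j).hom ((P.d d d').hom x)
        rw [map_finsum (C.d d d').hom (hfin d x)]
        exact (finsum_eq_zero_of_forall_eq_zero fun j => congrArg (fun q => q.hom x) (hinc_d d d' j)).trans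
          (finsum_eq_zero_of_forall_eq_zero fun j => congrArg (fun q => q.hom x) (hd_inc d d' j)).symm }
  obtain ⟨hc⟩ := nonempty_isColimit_Q R L
  obtain ⟨s, y, hy⟩ := hK J _ _ hc (e.inv ≫ DerivedCategory.Q.map Φ)
  have hmem : ∀ a : J, a ∈ s := by
    intro a
    by_contra ha
    obtain ⟨i, j⟩ := a
    let π : C ⟶ L ⟨i, j⟩ := Sigma.desc fun c => if h : c = ⟨i, j⟩ then eqToHom (congrArg L h) else 0
    have hπ : ∀ c, c ≠ (⟨i, j⟩ : J) → Sigma.ι L c ≫ π = 0 := fun c hc => by simp [π, hc]
    have hπ' : Sigma.ι L ⟨i, j⟩ ≫ π = 𝟙 _ := by simp [π]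
    have hQ : DerivedCategory.Q.map (Φ ≫ π) = 0 := by
      have h2 := congrArg (fun q => q ≫ DerivedCategory.Q.map π) hy
      simp only [Category.assoc, Preadditive.sum_comp] at h2
      rw [Finset.sum_eq_zero fun c hc => by
        show y c ≫ DerivedCategory.Q.map (Sigma.ι L c) ≫ DerivedCategory.Q.map π = 0
        rw [← Functor.map_comp, hπ c (ne_of_mem_of_not_mem hc ha), Functor.map_zero, comp_zero],
        ← Functor.map_comp] at h2
      exact zero_of_epi_comp e.inv h2
    have hH : HomologicalComplex.homologyMap (Φ ≫ π) i = 0 := by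
      have hn := DerivedCategory.homologyFunctorFactors_hom_naturality (Φ ≫ π) i
      rw [hQ, Functor.map_zero, zero_comp] at hn
      exact (cancel_epi ((DerivedCategory.homologyFunctorFactors (ModuleCat.{u} R) i).app P).hom).1
        (hn.symm.trans comp_zero.symm)
    obtain ⟨z, hz⟩ := (ModuleCat.epi_iff_surjective (P.homologyπ i)).1 inferInstance
      (b i j)
    have hcy : HomologicalComplex.cyclesMap (Φ ≫ π) i = 0 := by
      have := (L ⟨i, j⟩).isIso_homologyπ (i - 1) i (by simp) (by simp [L])
      rw [← cancel_mono ((L ⟨i, j⟩).homologyπ i), zero_comp,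
        ← HomologicalComplex.homologyπ_naturality, hH, comp_zero]
    have hx : ((Φ ≫ π).f i).hom ((P.iCycles i).hom z) = 0 := by
      have := congrArg (fun q => q.hom z) (HomologicalComplex.cyclesMap_i (Φ ≫ π) i)
      simpa [hcy] using this.symm
    have hx' : ((Φ ≫ π).f i).hom ((P.iCycles i).hom z) =
        (HomologicalComplex.singleObjXSelf (ComplexShape.up ℤ) i (ModuleCat.of R (Coind k R))).inv.hom
          (toCoind (cof ⟨i, j⟩) ((P.pOpcycles i).hom ((P.iCycles i).hom z))) := by
      show (π.f i).hom (∑ᶠ j', (inc i j').hom ((P.iCycles i).hom z)) = _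
      rw [map_finsum (π.f i).hom (hfin i _), finsum_eq_single _ j fun j' hj' => by
        show ((inc i j') ≫ π.f i).hom _ = 0
        have : (⟨i, j'⟩ : J) ≠ ⟨i, j⟩ := fun h => hj' (by injection h)
        have h0 : inc i j' ≫ π.f i = 0 := by
          simp only [inc, Category.assoc, ← HomologicalComplex.comp_f, hπ _ this,
            HomologicalComplex.zero_f, comp_zero]
        rw [h0]; rfl]
      show ((inc i j) ≫ π.f i).hom _ = _
      have h1 : inc i j ≫ π.f i = P.pOpcycles i ≫ cm i j := by
        simp only [inc, Category.assoc, ← HomologicalComplex.comp_f, hπ', HomologicalComplex.id_f,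
          Category.comp_id]
      rw [h1]
      exact hcm _ _ _
    rw [hx'] at hx
    have h0 : toCoind (cof ⟨i, j⟩) ((P.pOpcycles i).hom ((P.iCycles i).hom z)) = 0 := by
      have := congrArg (HomologicalComplex.singleObjXSelf (ComplexShape.up ℤ) i (ModuleCat.of R (Coind k R))).hom.hom hx
      simpa using this
    have hpz : (P.pOpcycles i).hom ((P.iCycles i).hom z) = (P.homologyι i).hom ((P.homologyπ i).hom z) :=
      (congrArg (fun q => q.hom z) (P.homology_π_ι (i := i))).symm
    have h1 := congrArg (fun f : Coind k R => toLin f (1 : R)) h0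
    rw [toCoind_apply, one_smul, hpz, hz] at h1
    have h2 : (b i).coord j (b i j) = 0 := by
      have h3 : ρ i (ι' i (b i j)) = b i j := congrArg (fun q => q (b i j)) (hρ i)
      rw [← h3]
      exact h1
    simp at h2
  haveI : Finite J := Finite.of_surjective (fun a : s => a.1) fun a => ⟨⟨a, hmem a⟩, rfl⟩
  let eH : ∀ i, (DerivedCategory.homologyFunctor (ModuleCat.{u} R) i).obj K ≅ P.homology i := fun i =>
    (DerivedCategory.homologyFunctor (ModuleCat.{u} R) i).mapIso e.symm ≪≫
      (DerivedCategory.homologyFunctorFactors (ModuleCat.{u} R) i).app P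
  refine ⟨fun i => ?_, ?_⟩
  · haveI : Finite (Module.Basis.ofVectorSpaceIndex k (P.homology i : ModuleCat.{u} R)) :=
      Finite.of_injective (fun j => (⟨i, j⟩ : J)) fun _ _ h => by injection h
    haveI := Module.Finite.of_basis (b i)
    have hf : Module.Finite k ((DerivedCategory.homologyFunctor (ModuleCat.{u} R) i).obj K) :=
      Module.Finite.equiv ((eH i).toLinearEquiv.symm.restrictScalars k)
    exact hf
  · refine (Set.finite_range (fun a : J => a.1)).subset fun i (hi : Nontrivial _) => ?_
    have hn : Nontrivial (P.homology i : ModuleCat.{u} R) := (eH i).toLinearEquiv.symm.toEquiv.nontrivial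
    obtain ⟨j⟩ := (b i).index_nonempty
    exact ⟨⟨i, j⟩, rfl⟩

end Groth.Agent.DEq
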