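import Mathlib.Algebra.Homology.DerivedCategory.TStructure
import Mathlib.Algebra.Homology.DerivedCategory.SingleTriangle
import Mathlib.CategoryTheory.Preadditive.Yoneda.Basic
import Mathlib.CategoryTheory.Triangulated.Pretriangulated
import Mathlib.CategoryTheory.Limits.Preserves.Shapes.Products
import Mathlib.CategoryTheory.Retract
import Mathlib.Algebra.Category.Grp.Preadditive
import Mathlib.Algebra.BigOperators.Finprod

/-!
# Finite decomposition of maps into direct sums

`Good K`: every map from `K` to a direct sum indexed by a type in universe `w` is a finite sum of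
maps to summands; this is the same as `Hom(K, -)` preserving those sums.
-/

set_option autoImplicit false

universe w v u

open CategoryTheory CategoryTheory.Limits Opposite CategoryTheory.Pretriangulated

namespace Groth.Agent.DEq

variable {D : Type u} [Category.{v} D] [Preadditive D]

/-- Maps out of `K` into direct sums are finite sums. -/
def Good (K : D) : Prop :=
  ∀ (J : Type w) (E : J → D) (c : Cofan E), IsColimit c → ∀ φ : K ⟶ c.pt,
    ∃ (s : Finset J) (y : ∀ j, K ⟶ E j), φ = ∑ j ∈ s, y j ≫ c.inj j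

namespace Good

theorem of_retract {K K' : D} (r : Retract K' K) (h : Good.{w} K) : Good.{w} K' := fun J E c hc φ => by
  obtain ⟨s, y, hy⟩ := h J E c hc (r.r ≫ φ)
  refine ⟨s, fun j => r.i ≫ y j, ?_⟩
  have h2 := congrArg (r.i ≫ ·) hy
  simp only [r.retract_assoc, Preadditive.comp_sum] at h2
  simpa using h2

theorem of_iso {K K' : D} (e : K' ≅ K) (h : Good.{w} K) : Good.{w} K' :=
  of_retract e.retract h

theorem of_isZero {K : D} (hK : IsZero K) : Good.{w} K := fun _ _ _ _ _ =>
  ⟨∅, fun _ => 0, hK.eq_of_src _ _⟩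

/-- `Hom(K, -)` preserves the direct sums. -/
theorem preservesColimitsOfShape {K : D} (h : Good.{w} K) (J : Type w) :
    PreservesColimitsOfShape (Discrete J) (preadditiveCoyoneda.obj (op K)) := by
  classical
  let G := preadditiveCoyoneda.obj (op K)
  have main : ∀ E : J → D, PreservesColimit (Discrete.functor E) G := fun E => ⟨fun {c₀} hc₀ => by
    let c : Cofan E := c₀
    have hc : IsColimit c := hc₀
    let π : ∀ j, c.pt ⟶ E j := fun j =>
      Cofan.IsColimit.desc hc fun i => if hij : i = j then eqToHom (congrArg E hij) else 0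
    have hπ : ∀ i j, c.inj i ≫ π j = if hij : i = j then eqToHom (congrArg E hij) else 0 :=
      fun i j => Cofan.IsColimit.fac hc _ i
    have hdec : ∀ φ : K ⟶ c.pt, ∃ s : Finset J, (∀ j, j ∉ s → φ ≫ π j = 0) ∧
        φ = ∑ j ∈ s, (φ ≫ π j) ≫ c.inj j := fun φ => by
      obtain ⟨s, y, hy⟩ := h J E c hc φ
      have hy' : ∀ j, φ ≫ π j = if j ∈ s then y j else 0 := fun j => by
        rw [hy, Preadditive.sum_comp]
        simp only [Category.assoc, hπ]
        split_ifs with hj
        · rw [Finset.sum_eq_single_of_mem j hj fun b _ hb => by rw [dif_neg hb, comp_zero],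
            dif_pos rfl, eqToHom_refl, Category.comp_id]
        · exact Finset.sum_eq_zero fun b hb => by
            rw [dif_neg (ne_of_mem_of_not_mem hb hj), comp_zero]
      refine ⟨s, fun j hj => (hy' j).trans (if_neg hj), ?_⟩
      conv_lhs => rw [hy]
      exact Finset.sum_congr rfl fun j hj => by rw [hy' j, if_pos hj]
    let Cc := Cocone (Discrete.functor E ⋙ G)
    let v : ∀ (s : Cc) (φ : K ⟶ c.pt) (j : J), (s.pt : Type v) := fun s φ j => s.ι.app ⟨j⟩ (φ ≫ π j)
    have hfin : ∀ (s : Cc) (φ : K ⟶ c.pt), (Function.support (v s φ)).Finite := fun s φ => by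
      obtain ⟨t, ht, -⟩ := hdec φ
      refine t.finite_toSet.subset fun j (hj : v s φ j ≠ 0) => Classical.not_not.1 fun hjt => hj ?_
      show s.ι.app ⟨j⟩ (φ ≫ π j) = 0
      rw [ht j hjt]; exact map_zero (s.ι.app ⟨j⟩).hom
    exact ⟨{
      desc := fun s => AddCommGrpCat.ofHom (AddMonoidHom.mk'
        (fun φ : K ⟶ c.pt => finsum (v s φ)) fun a b => by
          rw [← finsum_add_distrib (hfin s a) (hfin s b)]
          exact finsum_congr fun j => (congrArg (s.ι.app ⟨j⟩).hom (Preadditive.add_comp K c.pt (E j) a b (π j))).trans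
            (map_add (s.ι.app ⟨j⟩).hom _ _))
      fac := fun s ⟨i⟩ => AddCommGrpCat.ext fun (g : K ⟶ E i) => by
        show finsum (v s (g ≫ c.inj i)) = s.ι.app ⟨i⟩ g
        rw [finsum_eq_single _ i fun j hj => by
          show s.ι.app ⟨j⟩ ((g ≫ c.inj i) ≫ π j) = 0
          rw [Category.assoc, hπ, dif_neg (Ne.symm hj), comp_zero]; exact map_zero (s.ι.app ⟨j⟩).hom]
        show s.ι.app ⟨i⟩ ((g ≫ c.inj i) ≫ π i) = _
        simp [hπ]
      uniq := fun s m hm => AddCommGrpCat.ext fun (φ : K ⟶ c.pt) => by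
        obtain ⟨t, ht, hsum⟩ := hdec φ
        show m φ = finsum (v s φ)
        rw [finsum_eq_sum_of_support_subset _ (s := t) fun j hj => Classical.not_not.1 fun hjt => hj (by
          show s.ι.app ⟨j⟩ (φ ≫ π j) = 0
          rw [ht j hjt]; exact map_zero (s.ι.app ⟨j⟩).hom)]
        conv_lhs => rw [hsum]
        refine (map_sum m.hom _ _).trans (Finset.sum_congr rfl fun j _ => ?_)
        have h1 := congrArg (fun q => q.hom (show (G.obj (E j) : Type v) from φ ≫ π j)) (hm ⟨j⟩)
        exact h1 }⟩⟩
  exact ⟨fun {F} => by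
    have := main fun j => F.obj ⟨j⟩
    exact preservesColimit_of_iso_diagram _ Discrete.natIsoFunctor.symm⟩

end Good

/-- Preservation of direct sums gives finite decompositions. -/
theorem good_of_preserves {K : D}
    (h : ∀ J : Type w, PreservesColimitsOfShape (Discrete J) (preadditiveCoyoneda.obj (op K))) :
    Good.{w} K := by
  classical
  intro J E c hc φ
  have := h J
  let G := preadditiveCoyoneda.obj (op K)
  let N : AddSubgroup (K ⟶ c.pt) :=
    { carrier := {φ | ∃ (s : Finset J) (y : ∀ j, K ⟶ E j), φ = ∑ j ∈ s, y j ≫ c.inj j}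
      zero_mem' := ⟨∅, fun _ => 0, rfl⟩
      add_mem' := fun {a b} ⟨s, y, ha⟩ ⟨t, z, hb⟩ =>
        ⟨s ∪ t, fun j => (if j ∈ s then y j else 0) + (if j ∈ t then z j else 0), by
          simp only [Preadditive.add_comp, Finset.sum_add_distrib, ite_comp, zero_comp,
            Finset.sum_ite_mem]
          rw [Finset.union_inter_cancel_left, Finset.union_inter_cancel_right, ← ha, ← hb]⟩
      neg_mem' := fun {a} ⟨s, y, ha⟩ =>
        ⟨s, fun j => - y j, by rw [ha]; simp [Finset.sum_neg_distrib]⟩ }
  let q : G.obj c.pt ⟶ AddCommGrpCat.of ((K ⟶ c.pt) ⧸ N) := AddCommGrpCat.ofHom (QuotientAddGroup.mk' N)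
  have hq : q = 0 := (isColimitOfPreserves G hc).hom_ext fun ⟨j⟩ => by
    refine AddCommGrpCat.ext fun (g : K ⟶ E j) => ?_
    show QuotientAddGroup.mk' N (g ≫ c.inj j) = 0
    refine (QuotientAddGroup.eq_zero_iff _).2 ⟨{j}, fun i => if h : j = i then g ≫ eqToHom (congrArg E h) else 0, ?_⟩
    simp
  exact (QuotientAddGroup.eq_zero_iff φ).1 (ConcreteCategory.congr_hom hq φ)

end Groth.Agent.DEq
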