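import Groth.Agent.DRing.KProjRes
import Groth.Agent.DHA.KInj.Products
import Groth.Agent.DHA.KInj.Small
import Groth.Agent.DHA.KInjectiveResolution
import Groth.Agent.S0985
import Mathlib.Algebra.Homology.DerivedCategory.Basic
import Mathlib.Algebra.Category.ModuleCat.AB

/-!
# The derived category of a ring is generated by the ring under triangles and coproducts
-/

set_option autoImplicit false

universe u

open CategoryTheory CategoryTheory.Limits CategoryTheory.Pretriangulated

attribute [local instance] HasDerivedCategory.standard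

namespace Groth.Agent.DEq.GenerateMod

open Groth.Agent.DRing.KProj Groth.Agent.DRing.KProjRes

variable {R : Type u} [CommRing R]


/-- A class of objects closed under isomorphisms, triangles and coproducts. -/
structure Closed (P : (DerivedCategory (ModuleCat.{u} R)) → Prop) : Prop where
  iso : ∀ {A B : (DerivedCategory (ModuleCat.{u} R))}, (A ≅ B) → P A → P B
  tri₂ : ∀ T ∈ (distinguishedTriangles : Set (Triangle (DerivedCategory (ModuleCat.{u} R)))), P T.obj₁ → P T.obj₃ → P T.obj₂
  tri₃ : ∀ T ∈ (distinguishedTriangles : Set (Triangle (DerivedCategory (ModuleCat.{u} R)))), P T.obj₁ → P T.obj₂ → P T.obj₃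
  sum : ∀ {ι : Type u} (C : ι → (DerivedCategory (ModuleCat.{u} R))) (c : Cofan C), IsColimit c → (∀ i, P (C i)) → P c.pt

/-- Coproducts of complexes are coproducts in the derived category. -/
theorem isColimit_Q {ι : Type u} (K : ι → (CochainComplex (ModuleCat.{u} R) ℤ)) (c : Cofan K) (hc : IsColimit c) :
    Nonempty (IsColimit (Cofan.mk ((DerivedCategory.Q (C := ModuleCat.{u} R)).obj c.pt) (fun i => (DerivedCategory.Q (C := ModuleCat.{u} R)).map (c.inj i)))) := by
  obtain ⟨h⟩ := DHA.KInj.nonempty_isColimit_Q (A := ModuleCat.{u} R)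
    (fun L => ⟨_, (DHA.KInj.resolutionι (ModuleCat.{u} R)).app L, inferInstance, inferInstance⟩) K
  refine ⟨IsColimit.ofIsoColimit h (Cofan.ext
    ((DerivedCategory.Q (C := ModuleCat.{u} R)).mapIso ((coproductIsCoproduct K).coconePointUniqueUpToIso hc)) fun i => ?_)⟩
  exact ((DerivedCategory.Q (C := ModuleCat.{u} R)).map_comp _ _).symm.trans (congrArg (DerivedCategory.Q (C := ModuleCat.{u} R)).map
    (IsColimit.comp_coconePointUniqueUpToIso_hom (coproductIsCoproduct K) hc ⟨i⟩))

variable {P : (DerivedCategory (ModuleCat.{u} R)) → Prop} (hP : Closed P)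

include hP in
theorem sigma_mem {ι : Type u} (K : ι → (CochainComplex (ModuleCat.{u} R) ℤ)) (c : Cofan K) (hc : IsColimit c) (h : ∀ i, P ((DerivedCategory.Q (C := ModuleCat.{u} R)).obj (K i))) :
    P ((DerivedCategory.Q (C := ModuleCat.{u} R)).obj c.pt) :=
  hP.sum _ _ (isColimit_Q K c hc).some h

include hP in
theorem isZero_mem {A : (DerivedCategory (ModuleCat.{u} R))} (hA : IsZero A) : P A := by
  let K : PEmpty.{u + 1} → (CochainComplex (ModuleCat.{u} R) ℤ) := fun e => e.elim
  refine hP.iso (IsZero.iso ((DerivedCategory.Q (C := ModuleCat.{u} R)).map_isZero ?_) hA) (sigma_mem hP K _ (coproductIsCoproduct K) fun e => e.elim)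
  exact (IsZero.iff_id_eq_zero _).2 (Sigma.hom_ext _ _ fun e => e.elim)

variable (hone : ∀ n : ℤ,
  P ((DerivedCategory.Q (C := ModuleCat.{u} R)).obj ((HomologicalComplex.single (ModuleCat.{u} R) (ComplexShape.up ℤ) n).obj (ModuleCat.of R R))))

/-- The free module is the coproduct of copies of the ring. -/
noncomputable def freeCofan (S : Type u) : Cofan fun _ : S => ModuleCat.of R R :=
  Cofan.mk ((ModuleCat.free R).obj S) fun s => ModuleCat.ofHom (LinearMap.toSpanSingleton R _ (ModuleCat.freeMk s))

theorem freeCofan_inj_one (S : Type u) (s : S) : ((freeCofan (R := R) S).inj s).hom (1 : R) = ModuleCat.freeMk s :=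
  one_smul _ _

/-- The free module is the coproduct of copies of the ring. -/
noncomputable def isColimitFreeCofan (S : Type u) : IsColimit (freeCofan (R := R) S) :=
  Cofan.IsColimit.mk _ (fun c => ModuleCat.freeDesc (TypeCat.ofHom fun s => (c.inj s).hom (1 : R)))
    (fun c s => by
      refine ModuleCat.hom_ext (LinearMap.ext_ring ?_)
      rw [ModuleCat.hom_comp, LinearMap.comp_apply]
      erw [freeCofan_inj_one, ModuleCat.freeDesc_apply]
      rfl)
    (fun c m hm => by
      refine ModuleCat.free_hom_ext fun s => ?_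
      rw [ModuleCat.freeDesc_apply, ← freeCofan_inj_one]
      exact congrArg (fun g => g.hom (1 : R)) (hm s))

include hP hone in
theorem single_free_mem (n : ℤ) (S : Type u) :
    P ((DerivedCategory.Q (C := ModuleCat.{u} R)).obj ((HomologicalComplex.single (ModuleCat.{u} R) (ComplexShape.up ℤ) n).obj
      ((ModuleCat.free R).obj S))) :=
  let F := HomologicalComplex.single (ModuleCat.{u} R) (ComplexShape.up ℤ) n
  sigma_mem hP (fun _ : S => F.obj (ModuleCat.of R R)) (Cofan.mk _ fun s => F.map ((freeCofan S).inj s))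
    ((isColimitMapCoconeCofanMkEquiv F _ _) (isColimitOfPreserves F (isColimitFreeCofan S))) fun _ => hone n

/-- A complex with zero differentials is the coproduct of its terms. -/
noncomputable def zeroCxCofan (Q : ℤ → ModuleCat.{u} R) :
    Cofan fun i : ULift.{u} ℤ => (HomologicalComplex.single (ModuleCat.{u} R) (ComplexShape.up ℤ) i.down).obj (Q i.down) :=
  Cofan.mk (zeroCx Q) fun i =>
    HomologicalComplex.mkHomFromSingle (K := zeroCx Q) (𝟙 (Q i.down)) (fun _ _ => comp_zero)

/-- A complex with zero differentials is the coproduct of its terms. -/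
noncomputable def isColimitZeroCxCofan (Q : ℤ → ModuleCat.{u} R) : IsColimit (zeroCxCofan Q) :=
  Cofan.IsColimit.mk _
    (fun c => zeroCxHom Q
      (fun i => (HomologicalComplex.singleObjXSelf (ComplexShape.up ℤ) i (Q i)).inv ≫ (c.inj ⟨i⟩).f i)
      (fun i => by
        rw [Category.assoc]
        erw [(c.inj ⟨i⟩).comm i (i + 1)]
        rw [HomologicalComplex.single_obj_d, zero_comp, comp_zero]))
    (fun c i => by
      refine HomologicalComplex.from_single_hom_ext ?_
      simp [zeroCxCofan])
    (fun c m hm => by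
      refine HomologicalComplex.hom_ext _ _ fun i => ?_
      change m.f i = (HomologicalComplex.singleObjXSelf (ComplexShape.up ℤ) i (Q i)).inv ≫ (c.inj ⟨i⟩).f i
      rw [← hm ⟨i⟩]
      simp [zeroCxCofan])

include hP hone in
theorem zeroCx_free_mem (S : ℤ → Type u) : P ((DerivedCategory.Q (C := ModuleCat.{u} R)).obj (zeroCx fun i => (ModuleCat.free R).obj (S i))) :=
  sigma_mem hP _ (zeroCxCofan fun i => (ModuleCat.free R).obj (S i)) (isColimitZeroCxCofan _) fun i =>
    single_free_mem hP hone i.down (S i.down)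

include hP in
theorem cone_mem {A B : (CochainComplex (ModuleCat.{u} R) ℤ)} (φ : A ⟶ B) (hA : P ((DerivedCategory.Q (C := ModuleCat.{u} R)).obj A)) (hB : P ((DerivedCategory.Q (C := ModuleCat.{u} R)).obj B)) :
    P ((DerivedCategory.Q (C := ModuleCat.{u} R)).obj (CochainComplex.mappingCone φ)) :=
  hP.tri₃ _ ((DerivedCategory.mem_distTriang_iff _).2 ⟨_, _, φ, ⟨Iso.refl _⟩⟩) hA hB

include hP in
theorem biprod_mem {A B : (CochainComplex (ModuleCat.{u} R) ℤ)} (hA : P ((DerivedCategory.Q (C := ModuleCat.{u} R)).obj A)) (hB : P ((DerivedCategory.Q (C := ModuleCat.{u} R)).obj B)) : P ((DerivedCategory.Q (C := ModuleCat.{u} R)).obj (A ⊞ B)) :=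
  have : (DerivedCategory.Q (C := ModuleCat.{u} R)).Additive := inferInstance
  have : PreservesBinaryBiproducts (DerivedCategory.Q (C := ModuleCat.{u} R)) :=
    preservesBinaryBiproducts_of_preservesBiproducts _
  hP.iso ((DerivedCategory.Q (C := ModuleCat.{u} R)).mapBiprod A B).symm
    (hP.tri₂ _ (binaryBiproductTriangle_distinguished ((DerivedCategory.Q (C := ModuleCat.{u} R)).obj A) ((DerivedCategory.Q (C := ModuleCat.{u} R)).obj B)) hA hB)

include hP hone in
theorem stage_mem (K : (CochainComplex (ModuleCat.{u} R) ℤ)) : ∀ n, P ((DerivedCategory.Q (C := ModuleCat.{u} R)).obj (stage K n).P)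
  | 0 => biprod_mem hP (zeroCx_free_mem hP hone _)
      (cone_mem hP _ (zeroCx_free_mem hP hone _) (zeroCx_free_mem hP hone _))
  | n + 1 => cone_mem hP _ (zeroCx_free_mem hP hone _) (stage_mem K n)

include hP hone in
theorem res_mem (K : (CochainComplex (ModuleCat.{u} R) ℤ)) : P ((DerivedCategory.Q (C := ModuleCat.{u} R)).obj (res K)) := by
  let L : ℕ ⥤ (CochainComplex (ModuleCat.{u} R) ℤ) := Functor.ofSequence (trans K)
  have hL : ∀ n, P ((DerivedCategory.Q (C := ModuleCat.{u} R)).obj (L.obj n)) := stage_mem hP hone K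
  let L' : ULift.{u} ℕ → (CochainComplex (ModuleCat.{u} R) ℤ) := fun n => L.obj n.down
  obtain ⟨hc'⟩ := isColimit_Q L' _ (coproductIsCoproduct L')
  have hc : ∀ (c : Cofan L.obj), IsColimit c →
      IsColimit (Cofan.mk ((DerivedCategory.Q (C := ModuleCat.{u} R)).obj c.pt) fun n => (DerivedCategory.Q (C := ModuleCat.{u} R)).map (c.inj n)) := fun c hc₀ =>
    let d : Cofan L' := Cofan.mk c.pt fun n => c.inj n.down
    let hd : IsColimit d := Cofan.IsColimit.mk d (fun s => Cofan.IsColimit.desc hc₀ fun n => s.inj ⟨n⟩)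
      (fun s n => Cofan.IsColimit.fac hc₀ _ n.down)
      (fun s m hm => Cofan.IsColimit.hom_ext hc₀ _ _ fun n => (hm ⟨n⟩).trans (Cofan.IsColimit.fac hc₀ (fun n => s.inj ⟨n⟩) n).symm)
    let hq := (isColimit_Q L' d hd).some
    Cofan.IsColimit.mk _ (fun s => Cofan.IsColimit.desc hq fun n => s.inj n.down)
      (fun s n => Cofan.IsColimit.fac hq _ ⟨n⟩)
      (fun s m hm => Cofan.IsColimit.hom_ext hq _ _ fun n => (hm n.down).trans (Cofan.IsColimit.fac hq (fun n => s.inj n.down) n).symm)
  have hpres : PreservesColimit (Discrete.functor L.obj) (DerivedCategory.Q (C := ModuleCat.{u} R)) :=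
    preservesColimit_of_preserves_colimit_cocone (coproductIsCoproduct L.obj)
      ((isColimitMapCoconeCofanMkEquiv _ _ _).symm (hc _ (coproductIsCoproduct L.obj)))
  have : HasCoproduct fun n => (DerivedCategory.Q (C := ModuleCat.{u} R)).obj (L.obj n) := ⟨⟨⟨_, hc _ (coproductIsCoproduct L.obj)⟩⟩⟩
  have : HasExactColimitsOfShape ℕ (ModuleCat.{u} R) := DHA.KInj.hasExactColimitsOfShape_nat (A := ModuleCat.{u} R)
  obtain ⟨c, hT⟩ := Groth.Agent.S0985.result L
  have hsum : P (∐ fun n => (DerivedCategory.Q (C := ModuleCat.{u} R)).obj (L.obj n)) := by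
    let d : Cofan fun n : ULift.{u} ℕ => (DerivedCategory.Q (C := ModuleCat.{u} R)).obj (L.obj n.down) :=
      Cofan.mk (∐ fun n => (DerivedCategory.Q (C := ModuleCat.{u} R)).obj (L.obj n)) fun n => Sigma.ι (fun n => (DerivedCategory.Q (C := ModuleCat.{u} R)).obj (L.obj n)) n.down
    exact hP.sum _ d (Cofan.IsColimit.mk d (fun s => Sigma.desc fun n => s.inj ⟨n⟩)
      (fun s n => Sigma.ι_desc _ _) (fun s m hm => Sigma.hom_ext _ _ fun n =>
        (hm ⟨n⟩).trans (Sigma.ι_desc (f := fun n => (DerivedCategory.Q (C := ModuleCat.{u} R)).obj (L.obj n)) (fun n => s.inj ⟨n⟩) n).symm))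
      fun n => hL n.down
  exact hP.tri₃ _ hT hsum hsum

include hP hone in
/-- A class closed under triangles and coproducts containing all `R[n]` is everything. -/
theorem mem (K : (DerivedCategory (ModuleCat.{u} R))) : P K :=
  hP.iso (asIso ((DerivedCategory.Q (C := ModuleCat.{u} R)).map (resπ ((DerivedCategory.Q (C := ModuleCat.{u} R)).objPreimage K))) ≪≫ (DerivedCategory.Q (C := ModuleCat.{u} R)).objObjPreimageIso K)
    (res_mem hP hone _)

end Groth.Agent.DEq.GenerateMod
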