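import Groth.Prelude.Def_DualFM
import Groth.Agent.KFlat.ProjFormulaClosed
import Groth.Agent.KFlat.LTensorAssoc
import Groth.Agent.KFlat.LTensorMod
import Groth.Agent.KFlat.LpullComp
import Groth.Agent.KFlat.Closure
import Mathlib.CategoryTheory.Monoidal.Category

/-!
# The Fourier–Mukai functor of the diagonal kernel

* `exists_ltensorCongr`: complexes isomorphic in `D(X)` have isomorphic derived tensor functors;
* `ltensorPushIso`: for a closed immersion `f`, `- ⊗^L f_* O = Rf_* Lf^*`;
* `phiDiagIso`: the kernel `Δ_* O` gives the identity functor.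
-/

set_option autoImplicit false

universe u

open CategoryTheory CategoryTheory.Limits AlgebraicGeometry MonoidalCategory
open Groth.Agent.KFlat.Pull Groth.Agent.KFlat.LTensor Groth.Agent.KFlat.LTensorAssoc
  Groth.Agent.KFlat.RPush Groth.Agent.KFlat.ProjFormulaClosed Groth.Agent.KFlat.WeakKInj

attribute [local instance] HasDerivedCategory.standard

namespace Groth.Agent.DEq

variable {X Y : Scheme.{u}}

/-- A quasi-isomorphism in the second variable does not change the derived tensor product. -/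
theorem nonempty_ltensorCongr_qis {E E' : CochainComplex X.Modules ℤ} (t : E ⟶ E') [QuasiIso t]
    [DCoh.HasLTensorCx E] [DCoh.HasLTensorCx E'] : Nonempty (DCoh.LTensorCx E ≅ DCoh.LTensorCx E') := by
  let τ : resY X ⋙ DCoh.tensorCxQ E ⟶ resY X ⋙ DCoh.tensorCxQ E' :=
    Functor.whiskerLeft (resY X) (Functor.whiskerRight (DCoh.tensorCx.flip.map t) DerivedCategory.Q)
  have hτ : ∀ P, IsIso (τ.app P) := fun P => by
    have hq := quasiIso_tensorCx_map_right E (isKFlat_resY P) t
    exact inferInstanceAs (IsIso (DerivedCategory.Q.map ((DCoh.tensorCx.obj ((resY X).obj P)).map t)))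
  have : IsIso τ := NatIso.isIso_of_isIso_app _
  exact ⟨Localization.liftNatIso DerivedCategory.Q (HomologicalComplex.quasiIso X.Modules (ComplexShape.up ℤ))
    _ _ _ _ (ltIso E ≪≫ asIso τ ≪≫ (ltIso E').symm)⟩

/-- Complexes isomorphic in `D(X)` have isomorphic derived tensor functors. -/
theorem nonempty_ltensorCongr {E E' : CochainComplex X.Modules ℤ}
    (e : DerivedCategory.Q.obj E ≅ DerivedCategory.Q.obj E')
    [DCoh.HasLTensorCx E] [DCoh.HasLTensorCx E'] : Nonempty (DCoh.LTensorCx E ≅ DCoh.LTensorCx E') := by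
  let I := (injRes X).obj E'
  let s : E' ⟶ I := (injι X).app E'
  have : QuasiIso s := inferInstance
  haveI : DCoh.HasLTensorCx I := hasLTensorCx I
  obtain ⟨t₀, ht₀⟩ := (CochainComplex.IsKInjective.Qh_map_bijective
    ((HomotopyCategory.quotient X.Modules (ComplexShape.up ℤ)).obj E) I).2
      ((DerivedCategory.quotientCompQhIso X.Modules).hom.app E ≫ e.hom ≫ DerivedCategory.Q.map s ≫
        (DerivedCategory.quotientCompQhIso X.Modules).inv.app I)
  obtain ⟨t, rfl⟩ := (HomotopyCategory.quotient X.Modules (ComplexShape.up ℤ)).map_surjective t₀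
  have htq : DerivedCategory.Q.map t = e.hom ≫ DerivedCategory.Q.map s := by
    have hn := (DerivedCategory.quotientCompQhIso X.Modules).hom.naturality t
    rw [Functor.comp_map, ht₀] at hn
    simpa using hn.symm
  have : QuasiIso t := (DerivedCategory.isIso_Q_map_iff_quasiIso _ t).1 (htq ▸ inferInstance)
  obtain ⟨e₁⟩ := nonempty_ltensorCongr_qis t
  obtain ⟨e₂⟩ := nonempty_ltensorCongr_qis s
  exact ⟨e₁ ≪≫ e₂.symm⟩

section Closed

variable (f : X ⟶ Y) [IsClosedImmersion f]

/-- `O ⊗ N ≅ N`, naturally. -/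
noncomputable def unitTensorNatIso :
    (DCoh.tensorBi (X := X)).obj (Coh.structureModule X) ≅ 𝟭 X.Modules :=
  ((Groth.Agent.KFlat.tensorBiFlipIso X.sheaf).app (Coh.structureModule X)).symm ≪≫
    ((Groth.Agent.KFlat.tensorBiFlipIso X.sheaf).app (Coh.structureModule X) ≪≫
      (Functor.isoWhiskerLeft (ModSite.toPre X.sheaf) (Functor.isoWhiskerRight
        (leftUnitorNatIso _) (ModSite.shPre X.sheaf)) ≪≫
          @asIso _ _ _ _ _ (Groth.Agent.KFlat.isIso_preAdj_counit X.sheaf)))

/-- `f_* O ⊗ N ≅ f_* f^* N`, naturally. -/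
noncomputable def tensorPushNatIso :
    DCoh.tensorRightMod ((Scheme.Modules.pushforward f).obj (Coh.structureModule X)) ≅
      Scheme.Modules.pullback f ⋙ Scheme.Modules.pushforward f :=
  (Groth.Agent.KFlat.tensorBiFlipIso Y.sheaf).app ((Scheme.Modules.pushforward f).obj (Coh.structureModule X)) ≪≫
    NatIso.ofComponents (F := (DCoh.tensorBi (X := Y)).obj ((Scheme.Modules.pushforward f).obj (Coh.structureModule X)))
      (G := (Scheme.Modules.pullback f ⋙ (DCoh.tensorBi (X := X)).obj (Coh.structureModule X)) ⋙ Scheme.Modules.pushforward f)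
      (fun N => (θIso f (Coh.structureModule X) N).symm)
      (fun {N N'} ψ => by
        rw [Iso.symm_hom, Iso.symm_hom, Iso.comp_inv_eq, Category.assoc, Iso.eq_inv_comp]
        exact (θIso_right f (Coh.structureModule X) ψ).symm) ≪≫
    Functor.isoWhiskerRight (Functor.isoWhiskerLeft (Scheme.Modules.pullback f) unitTensorNatIso ≪≫
      Functor.rightUnitor _) (Scheme.Modules.pushforward f)

/-- The same on complexes. -/
noncomputable def tensorPushCxIso :
    DCoh.tensorCx.flip.obj ((HomologicalComplex.single Y.Modules (ComplexShape.up ℤ) 0).obj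
        ((Scheme.Modules.pushforward f).obj (Coh.structureModule X))) ≅ pullCx f ⋙ pushCx f :=
  (Groth.Agent.KFlat.totSingleCxIso (DCoh.tensorBi (X := Y))
      ((Scheme.Modules.pushforward f).obj (Coh.structureModule X))).symm ≪≫
    NatIso.mapHomologicalComplex (tensorPushNatIso f) (ComplexShape.up ℤ)

variable [DCoh.HasLpull f] [DCoh.HasRpush f]

/-- `- ⊗^L f_* O = Rf_* Lf^*` for a closed immersion `f`. -/
noncomputable def ltensorPushIso
    [DCoh.HasLTensorCx ((HomologicalComplex.single Y.Modules (ComplexShape.up ℤ) 0).obj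
      ((Scheme.Modules.pushforward f).obj (Coh.structureModule X)))] :
    DCoh.LTensorCx ((HomologicalComplex.single Y.Modules (ComplexShape.up ℤ) 0).obj
      ((Scheme.Modules.pushforward f).obj (Coh.structureModule X))) ≅ DCoh.Lpull f ⋙ DCoh.Rpush f :=
  have : IsIso (toRpush f) :=
    have : ∀ K, IsIso ((toRpush f).app K) := isIso_toRpush_closed f
    NatIso.isIso_of_isIso_app _
  Localization.liftNatIso DerivedCategory.Q (HomologicalComplex.quasiIso Y.Modules (ComplexShape.up ℤ))
    _ _ _ _ (ltIso _ ≪≫ Functor.isoWhiskerLeft (resY Y) (Functor.isoWhiskerRight (tensorPushCxIso f) _ ≪≫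
        Functor.associator _ _ _ ≪≫ Functor.isoWhiskerLeft (pullCx f) (asIso (toRpush f)) ≪≫
        (Functor.associator _ _ _).symm) ≪≫
      (Functor.associator _ _ _).symm ≪≫ Functor.isoWhiskerRight (lpullIso f).symm _ ≪≫
      Functor.associator _ _ _)

end Closed

/-- `L(id)^* = id`. -/
theorem nonempty_lpullId {f : X ⟶ X} (hf : f = 𝟙 X) [DCoh.HasLpull f] :
    Nonempty (DCoh.Lpull f ≅ 𝟭 (DCoh.D X)) := by
  subst hf
  let c : pullCx (𝟙 X) ≅ 𝟭 _ :=
    NatIso.mapHomologicalComplex (Scheme.Modules.pullbackId X) (ComplexShape.up ℤ) ≪≫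
      Functor.mapHomologicalComplexIdIso X.Modules (ComplexShape.up ℤ)
  exact ⟨Localization.liftNatIso DerivedCategory.Q (HomologicalComplex.quasiIso X.Modules (ComplexShape.up ℤ))
    _ _ _ _ (lpullIso (𝟙 X) ≪≫ Functor.isoWhiskerLeft (resY X) (Functor.isoWhiskerRight c _ ≪≫
      Functor.leftUnitor _) ≪≫ resQIso ≪≫ (Functor.rightUnitor _).symm)⟩

/-- `R(id)_* = id`. -/
theorem nonempty_rpushId {f : X ⟶ X} (hf : f = 𝟙 X) [DCoh.HasRpush f] :
    Nonempty (DCoh.Rpush f ≅ 𝟭 (DCoh.D X)) := by
  subst hf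
  let c : pushCx (𝟙 X) ≅ 𝟭 _ :=
    NatIso.mapHomologicalComplex (Scheme.Modules.pushforwardId X) (ComplexShape.up ℤ) ≪≫
      Functor.mapHomologicalComplexIdIso X.Modules (ComplexShape.up ℤ)
  exact ⟨Localization.liftNatIso DerivedCategory.Q (HomologicalComplex.quasiIso X.Modules (ComplexShape.up ℤ))
    _ _ _ _ (rpushIso (𝟙 X) ≪≫ Functor.isoWhiskerLeft (injRes X) (Functor.isoWhiskerRight c _ ≪≫
      Functor.leftUnitor _) ≪≫ injQIso ≪≫ (Functor.rightUnitor _).symm)⟩

end Groth.Agent.DEq
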