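import Groth.Agent.DEq.LocFreeCx
import Groth.Agent.KFlat.LpullComp
import Groth.Agent.KFlat.LocalD
import Groth.Agent.ParaFormal.Elkik.RankN
import Groth.Agent.CohDerLib.QC.AcyPush

/-!
# The open locus where a perfect object becomes locally free of rank `r` in degree `i`

A module in degree `i` is recognised by its cohomology sheaves.  If a derived pullback of a perfect object
is of this shape at `y`, then the numerical conditions of `LocFreeCx` hold at the image point for any
strictly perfect model, hence nearby, and the object itself is of this shape near the image point.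
-/

set_option autoImplicit false

universe u

open CategoryTheory CategoryTheory.Limits AlgebraicGeometry TopologicalSpace
attribute [local instance] HasDerivedCategory.standard

noncomputable section

namespace Groth.Agent.DEq.LocFreeLocus

open Groth.Agent.KFlat.Pull
open Groth.Agent.Props.QRank (fibreRank)
open Groth.Agent.DEq.LocFreeCx

variable {X Y : Scheme.{u}}

/-- A module as a complex placed in one degree. -/
abbrev sg (i : ℤ) (M : X.Modules) : CochainComplex X.Modules ℤ :=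
  (HomologicalComplex.single X.Modules (ComplexShape.up ℤ) i).obj M

theorem isStrictlyPerfect_sg (i : ℤ) {M : X.Modules} (hM : FlatMod.IsFinLocFree M) :
    DCoh.IsStrictlyPerfect (sg i M) := by
  refine ⟨⟨i, i, fun j hj => HomologicalComplex.isZero_single_obj_X _ _ _ _ (by omega)⟩, fun j => ?_⟩
  by_cases h : j = i
  · subst h
    exact KFlat.LocFree.isFinLocFree_of_iso (HomologicalComplex.singleObjXSelf _ _ _).symm hM
  · exact isFinLocFree_isZero (HomologicalComplex.isZero_single_obj_X _ _ _ _ h)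

theorem isKFlat_sg (i : ℤ) {M : X.Modules} (hM : FlatMod.IsFinLocFree M) : DCoh.IsKFlat (sg i M) :=
  KFlat.LocalD.isKFlat_of_isStrictlyPerfect (isStrictlyPerfect_sg i hM)

/-- A module in degree `i` through the shift. -/
def sgIso (i : ℤ) (M : X.Modules) : DerivedCategory.Q.obj (sg i M) ≅ (DCoh.inD X M)⟦-i⟧ :=
  ((DerivedCategory.singleFunctorIsoCompQ X.Modules i).app M).symm ≪≫
    (((DerivedCategory.singleFunctors X.Modules).shiftIso (-i) i 0 (by omega)).app M).symm

/-- An isomorphism in the derived category on cohomology sheaves. -/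
def homIso {A B : CochainComplex X.Modules ℤ} (e : DerivedCategory.Q.obj A ≅ DerivedCategory.Q.obj B) (j : ℤ) :
    A.homology j ≅ B.homology j :=
  ((DerivedCategory.homologyFunctorFactors X.Modules j).app A).symm ≪≫
    (DerivedCategory.homologyFunctor X.Modules j).mapIso e ≪≫
      (DerivedCategory.homologyFunctorFactors X.Modules j).app B

/-- Being represented by a locally free module of rank `r` in degree `i`. -/
def Shape (C : CochainComplex X.Modules ℤ) (i : ℤ) (r : ℕ) : Prop :=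
  (∀ j, j ≠ i → IsZero (C.homology j)) ∧ FlatMod.IsFinLocFreeOfRank r (C.homology i)

theorem ofRank_iso {M N : X.Modules} (e : M ≅ N) {r : ℕ} (h : FlatMod.IsFinLocFreeOfRank r M) :
    FlatMod.IsFinLocFreeOfRank r N := fun x =>
  let ⟨U, hx, ⟨e'⟩⟩ := h x
  ⟨U, hx, ⟨((Scheme.Modules.restrictFunctor U.ι).mapIso e).symm ≪≫ e'⟩⟩

theorem shape_of_iso {A B : CochainComplex X.Modules ℤ} (e : DerivedCategory.Q.obj A ≅ DerivedCategory.Q.obj B)
    {i : ℤ} {r : ℕ} (h : Shape B i r) : Shape A i r :=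
  ⟨fun j hj => (h.1 j hj).of_iso (homIso e j), ofRank_iso (homIso e i).symm h.2⟩

theorem shape_sg {i : ℤ} {r : ℕ} {M : X.Modules} (h : FlatMod.IsFinLocFreeOfRank r M) : Shape (sg i M) i r :=
  ⟨fun j hj => HomologicalComplex.isZero_single_obj_homology _ _ _ _ hj,
    ofRank_iso (HomologicalComplex.singleObjHomologySelfIso _ _ _).symm h⟩

theorem exists_iso_sg {C : CochainComplex X.Modules ℤ} {i : ℤ} {r : ℕ} (h : Shape C i r) :
    ∃ M : X.Modules, FlatMod.IsFinLocFreeOfRank r M ∧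
      Nonempty (DerivedCategory.Q.obj C ≅ DerivedCategory.Q.obj (sg i M)) := by
  have hz : ∀ j, j ≠ i → IsZero ((DerivedCategory.homologyFunctor X.Modules j).obj (DerivedCategory.Q.obj C)) :=
    fun j hj => (h.1 j hj).of_iso ((DerivedCategory.homologyFunctorFactors X.Modules j).app C)
  have : (DerivedCategory.Q.obj C).IsGE i := (DerivedCategory.isGE_iff _ i).2 fun j hj => hz j (by omega)
  have : (DerivedCategory.Q.obj C).IsLE i := (DerivedCategory.isLE_iff _ i).2 fun j hj => hz j (by omega)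
  obtain ⟨M, ⟨e⟩⟩ := DerivedCategory.exists_iso_singleFunctor_obj_of_isGE_of_isLE (DerivedCategory.Q.obj C) i
  let e' : DerivedCategory.Q.obj C ≅ DerivedCategory.Q.obj (sg i M) :=
    e ≪≫ (DerivedCategory.singleFunctorIsoCompQ X.Modules i).app M
  exact ⟨M, ofRank_iso (homIso e' i ≪≫ HomologicalComplex.singleObjHomologySelfIso _ _ _) h.2, ⟨e'⟩⟩

/-- Inverse images of isomorphic K-flat complexes. -/
def pullQIso (f : X ⟶ Y) {A B : CochainComplex Y.Modules ℤ} (hA : DCoh.IsKFlat A) (hB : DCoh.IsKFlat B)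
    (e : DerivedCategory.Q.obj A ≅ DerivedCategory.Q.obj B) :
    DerivedCategory.Q.obj ((pullCx f).obj A) ≅ DerivedCategory.Q.obj ((pullCx f).obj B) :=
  haveI := hasLpull f
  (@asIso _ _ _ _ ((toPull f).app A) (isIso_toPull f hA)).symm ≪≫ (DCoh.Lpull f).mapIso e ≪≫
    @asIso _ _ _ _ ((toPull f).app B) (isIso_toPull f hB)

/-- Two ways of pulling back along a commutative square. -/
def cxComm {P Q T : Scheme.{u}} {a : T ⟶ P} {b : P ⟶ X} {a' : T ⟶ Q} {b' : Q ⟶ X} (h : a ≫ b = a' ≫ b')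
    (C : CochainComplex X.Modules ℤ) :
    (pullCx a).obj ((pullCx b).obj C) ≅ (pullCx a').obj ((pullCx b').obj C) :=
  (pullCxComp a b).app C ≪≫ eqToIso (by rw [h]) ≪≫ ((pullCxComp a' b').app C).symm

/-- The inverse image of a module placed in one degree. -/
def sgPull (f : X ⟶ Y) (i : ℤ) (M : Y.Modules) :
    (pullCx f).obj (sg i M) ≅ sg i ((Scheme.Modules.pullback f).obj M) :=
  (HomologicalComplex.singleMapHomologicalComplex (Scheme.Modules.pullback f) (ComplexShape.up ℤ) i).app M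

theorem shape_pull (f : X ⟶ Y) {C : CochainComplex Y.Modules ℤ} (hC : DCoh.IsKFlat C) {i : ℤ} {r : ℕ}
    (h : Shape C i r) : Shape ((pullCx f).obj C) i r := by
  obtain ⟨M, hM, ⟨e⟩⟩ := exists_iso_sg h
  exact shape_of_iso (pullQIso f hC (isKFlat_sg i (isFinLocFree_of_ofRank hM)) e ≪≫
    DerivedCategory.Q.mapIso (sgPull f i M))
    (shape_sg (ParaFormal.Elkik.isFinLocFreeOfRank_pullback f hM))

/-- Cohomology sheaves commute with restriction. -/
def homResIso (W : X.Opens) (C : CochainComplex X.Modules ℤ) (j : ℤ) :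
    ((pullCx W.ι).obj C).homology j ≅ (Scheme.Modules.restrictFunctor W.ι).obj (C.homology j) :=
  (C.sc j).mapHomologyIso (Scheme.Modules.pullback W.ι) ≪≫
    ((Scheme.Modules.restrictFunctorIsoPullback W.ι).app _).symm

theorem shape_of_local {C : CochainComplex X.Modules ℤ} {i : ℤ} {r : ℕ}
    (h : ∀ x : X, ∃ W : X.Opens, x ∈ W ∧ Shape ((pullCx W.ι).obj C) i r) : Shape C i r := by
  choose W hx hW using h
  exact ⟨fun j hj => CohDerLib.QC.isZero_of_restrict W
      (top_unique fun x _ => Opens.mem_iSup.2 ⟨x, hx x⟩)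
      fun x => ((hW x).1 j hj).of_iso (homResIso (W x) C j).symm,
    ParaFormal.Elkik.isFinLocFreeOfRank_of_local fun x =>
      ⟨W x, hx x, ofRank_iso (homResIso (W x) C i) (hW x).2⟩⟩

theorem fibreRank_pull (f : X ⟶ Y) (M : Y.Modules) (x : X) :
    fibreRank ((Scheme.Modules.pullback f).obj M) x = fibreRank M (f x) :=
  RankLocus.fibreRank_pullback f M x

/-- The cokernel ranks of an inverse image. -/
theorem c_pull (f : X ⟶ Y) (S : CochainComplex Y.Modules ℤ) (j : ℤ) (x : X) :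
    c ((pullCx f).obj S) j x = c S j (f x) := by
  haveI : PreservesColimitsOfSize.{0, 0} (Scheme.Modules.pullback f) :=
    (Scheme.Modules.pullbackPushforwardAdjunction f).leftAdjoint_preservesColimits
  refine Eq.trans ?_ (fibreRank_pull f (cokernel (S.d (j - 1) j)) x)
  exact fibreRank_iso (PreservesCokernel.iso (Scheme.Modules.pullback f) (S.d (j - 1) j)).symm x

theorem fibreRank_cokernel_succ (S : CochainComplex X.Modules ℤ) (j : ℤ) (y : X) :
    fibreRank (cokernel (S.d j (j + 1))) y = c S (j + 1) y := by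
  have : ∀ k, k = j → fibreRank (cokernel (S.d k (j + 1))) y = fibreRank (cokernel (S.d j (j + 1))) y := by
    rintro k rfl
    rfl
  exact (this (j + 1 - 1) (by omega)).symm

/-- The Betti numbers of a strictly perfect complex, on itself. -/
theorem betti_self {S : CochainComplex X.Modules ℤ} (hS : DCoh.IsStrictlyPerfect S) (E : DCoh.D X)
    (e : DCoh.toD X S ≅ E) (j : ℤ) (y : X) :
    haveI := hasLpull (X.fromSpecResidueField y)
    PerfD.betti E y j + fibreRank (S.X (j + 1)) y = c S j y + c S (j + 1) y := by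
  haveI := hasLpull (X.fromSpecResidueField y)
  let T : X.Opens := ⊤
  have h := PerfTri.Betti.betti_add S (KFlat.LocalD.isKFlat_of_isStrictlyPerfect hS) E e T ((pullCx T.ι).obj S)
    (KFlat.LocFree.isStrictlyPerfect_pullCx T.ι hS) j
    (DerivedCategory.Q.map ((KFlat.FlatPull.restrictCxIso T).inv.app S))
    (KFlat.LocalD.hQisN_of_isIso _ _) y trivial
  rw [fibreRank_cokernel_succ] at h
  have h1 := fibreRank_pull T.ι (S.X (j + 1)) ⟨y, trivial⟩
  have h2 := c_pull T.ι S j ⟨y, trivial⟩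
  have h3 := c_pull T.ι S (j + 1) ⟨y, trivial⟩
  change fibreRank ((Scheme.Modules.pullback T.ι).obj (S.X (j + 1))) ⟨y, trivial⟩ =
    fibreRank (S.X (j + 1)) y at h1
  change c ((pullCx T.ι).obj S) j ⟨y, trivial⟩ = c S j y at h2
  change c ((pullCx T.ι).obj S) (j + 1) ⟨y, trivial⟩ = c S (j + 1) y at h3
  change _ + fibreRank ((Scheme.Modules.pullback T.ι).obj (S.X (j + 1))) ⟨y, trivial⟩ =
    c ((pullCx T.ι).obj S) j ⟨y, trivial⟩ + c ((pullCx T.ι).obj S) (j + 1) ⟨y, trivial⟩ at h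
  omega

theorem c_sg (i : ℤ) (M : X.Modules) (j : ℤ) (y : X) : c (sg i M) j y = fibreRank ((sg i M).X j) y :=
  fibreRank_iso (cokernelIsoOfEq (HomologicalComplex.single_obj_d _ _ _ _ _) ≪≫ cokernelZeroIsoTarget) y

theorem num_of_iso_sg {S : CochainComplex X.Modules ℤ} (hS : DCoh.IsStrictlyPerfect S) {i : ℤ} {r : ℕ}
    {M : X.Modules} (hM : FlatMod.IsFinLocFreeOfRank r M)
    (e : DerivedCategory.Q.obj S ≅ DerivedCategory.Q.obj (sg i M)) (y : X) :
    NumOK S i y ∧ c S i y + c S (i + 1) y = fibreRank (S.X (i + 1)) y + r := by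
  have h₀ := isStrictlyPerfect_sg i (isFinLocFree_of_ofRank hM)
  have key : ∀ j, c S j y + c S (j + 1) y = fibreRank (S.X (j + 1)) y + fibreRank ((sg i M).X j) y := fun j => by
    have A := betti_self hS (DerivedCategory.Q.obj (sg i M)) e j y
    have B := betti_self h₀ (DerivedCategory.Q.obj (sg i M)) (Iso.refl _) j y
    rw [c_sg, c_sg] at B
    omega
  refine ⟨fun j hj => ?_, ?_⟩
  · rw [key j, fibreRank_zero (HomologicalComplex.isZero_single_obj_X _ _ _ _ hj), Nat.add_zero]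
  · rw [key i, fibreRank_iso (HomologicalComplex.singleObjXSelf _ _ _) y, fibreRank_of_ofRank hM y]

/-- The numerical conditions, with the rank, are open. -/
theorem isOpen_num {S : CochainComplex X.Modules ℤ} (hS : DCoh.IsStrictlyPerfect S) (i : ℤ) (r : ℕ) :
    IsOpen {v : X | NumOK S i v ∧ c S i v + c S (i + 1) v = fibreRank (S.X (i + 1)) v + r} := by
  let O : X.Opens := ⟨{v | NumOK S i v}, isOpen_iff_eventually.2 fun v hv => eventually_numOK hS hv⟩
  let P := (pullCx O.ι).obj S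
  have hP : DCoh.IsStrictlyPerfect P := KFlat.LocFree.isStrictlyPerfect_pullCx O.ι hS
  have hPn : ∀ o, NumOK P i o := fun o j hj => by
    rw [c_pull, c_pull]
    exact (o.2 j hj).trans (fibreRank_pull O.ι (S.X (j + 1)) o).symm
  obtain ⟨hH, hrk⟩ := homology_spec hP hPn i
  have hlc : IsLocallyConstant (fibreRank (P.homology i)) :=
    have := PerfTri.Betti.isQuasicoherent_of_isFinLocFree hH
    Props.QRank.isLocallyConstant_fibreRank _ hH
  have hP' : IsOpen {o : (O : Scheme.{u}) | fibreRank (P.homology i) o = r} := hlc.isOpen_fiber r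
  have hset : {v : X | NumOK S i v ∧ c S i v + c S (i + 1) v = fibreRank (S.X (i + 1)) v + r} =
      O.ι '' {o : (O : Scheme.{u}) | fibreRank (P.homology i) o = r} := by
    ext v
    have key : ∀ hv : v ∈ O, fibreRank (P.homology i) ⟨v, hv⟩ + fibreRank (S.X (i + 1)) v =
        c S i v + c S (i + 1) v := fun hv => by
      have h := hrk ⟨v, hv⟩
      rw [c_pull, c_pull] at h
      have h1 : fibreRank (P.X (i + 1)) ⟨v, hv⟩ = fibreRank (S.X (i + 1)) v :=
        fibreRank_pull O.ι (S.X (i + 1)) ⟨v, hv⟩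
      rw [h1] at h
      exact h
    constructor
    · rintro ⟨hv, h⟩
      have := key hv
      exact ⟨⟨v, hv⟩, show fibreRank (P.homology i) ⟨v, hv⟩ = r by omega, rfl⟩
    · rintro ⟨⟨w, hw⟩, h, rfl⟩
      have h' : fibreRank (P.homology i) ⟨O.ι ⟨w, hw⟩, hw⟩ = r := h
      have := key hw
      refine ⟨hw, ?_⟩
      change c S i (O.ι ⟨w, hw⟩) + c S (i + 1) (O.ι ⟨w, hw⟩) = fibreRank (S.X (i + 1)) (O.ι ⟨w, hw⟩) + r
      omega
  rw [hset]
  exact O.ι.isOpenEmbedding.isOpenMap _ hP'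

theorem shape_of_num {S : CochainComplex X.Modules ℤ} (hS : DCoh.IsStrictlyPerfect S) {i : ℤ} {r : ℕ}
    (h : ∀ v, NumOK S i v ∧ c S i v + c S (i + 1) v = fibreRank (S.X (i + 1)) v + r) : Shape S i r := by
  refine ⟨fun j hj => ?_, ?_⟩
  · obtain ⟨hH, hrk⟩ := homology_spec hS (fun v => (h v).1) j
    exact isZero_of_fibreRank hH fun v => by
      have := hrk v
      have := (h v).1 j hj
      omega
  · obtain ⟨hH, hrk⟩ := homology_spec hS (fun v => (h v).1) i
    exact ofRank_of_fibreRank hH fun v => by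
      have := hrk v
      have := (h v).2
      omega

/-- The model of `G` near a point where the numerical conditions hold. -/
theorem exists_shape {G : CochainComplex X.Modules ℤ} (hG : DCoh.IsKFlat G) {V : X.Opens}
    {S : CochainComplex (V : Scheme.{u}).Modules ℤ} (hS : DCoh.IsStrictlyPerfect S)
    (e : DerivedCategory.Q.obj ((pullCx V.ι).obj G) ≅ DerivedCategory.Q.obj S) {i : ℤ} {r : ℕ}
    {v : (V : Scheme.{u})}
    (hv : NumOK S i v ∧ c S i v + c S (i + 1) v = fibreRank (S.X (i + 1)) v + r) :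
    ∃ W : X.Opens, V.ι v ∈ W ∧ Shape ((pullCx W.ι).obj G) i r := by
  let O : (V : Scheme.{u}).Opens := ⟨_, isOpen_num hS i r⟩
  have hWV : V.ι ''ᵁ O ≤ V := by
    rintro _ ⟨w, -, rfl⟩
    exact w.2
  refine ⟨V.ι ''ᵁ O, ⟨v, hv, rfl⟩, ?_⟩
  let k := X.homOfLE hWV
  have hk : ∀ w, k w ∈ O := fun w => by
    obtain ⟨o, ho, he⟩ := w.2
    have : k w = o := V.ι.isOpenEmbedding.injective (by
      rw [← Scheme.Hom.comp_apply, Scheme.homOfLE_ι]
      exact he.symm)
    rw [this]
    exact ho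
  refine shape_of_iso (DerivedCategory.Q.mapIso (eqToIso (by rw [Scheme.homOfLE_ι]) ≪≫
      ((pullCxComp k V.ι).app G).symm) ≪≫
    pullQIso k (isKFlat_pullCx V.ι hG) (KFlat.LocalD.isKFlat_of_isStrictlyPerfect hS) e) ?_
  refine shape_of_num (KFlat.LocFree.isStrictlyPerfect_pullCx k hS) fun w => ⟨fun j hj => ?_, ?_⟩
  · rw [c_pull, c_pull]
    exact ((hk w).1 j hj).trans (fibreRank_pull k (S.X (j + 1)) w).symm
  · rw [c_pull, c_pull]
    exact (hk w).2.trans (congrArg (· + r) (fibreRank_pull k (S.X (i + 1)) w).symm)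

/-- The locus. -/
def locus (G : CochainComplex X.Modules ℤ) (i : ℤ) (r : ℕ) : X.Opens :=
  sSup {W : X.Opens | Shape ((pullCx W.ι).obj G) i r}

theorem mem_locus {G : CochainComplex X.Modules ℤ} {i : ℤ} {r : ℕ} {x : X} :
    x ∈ locus G i r ↔ ∃ W : X.Opens, x ∈ W ∧ Shape ((pullCx W.ι).obj G) i r := by
  rw [locus, Opens.mem_sSup]
  exact ⟨fun ⟨W, hW, hx⟩ => ⟨W, hx, hW⟩, fun ⟨W, hx, hW⟩ => ⟨W, hW, hx⟩⟩

theorem shape_pull_of_range {G : CochainComplex X.Modules ℤ} (hG : DCoh.IsKFlat G) {i : ℤ} {r : ℕ}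
    (f : Y ⟶ X) (h : ∀ y, f y ∈ locus G i r) : Shape ((pullCx f).obj G) i r := by
  refine shape_of_local fun y => ?_
  obtain ⟨W, hxW, hW⟩ := mem_locus.1 (h y)
  exact ⟨f ⁻¹ᵁ W, hxW, shape_of_iso
    (DerivedCategory.Q.mapIso (cxComm (morphismRestrict_ι f W).symm G))
    (shape_pull (f ∣_ W) (isKFlat_pullCx W.ι hG) hW)⟩

theorem mem_locus_of_shape {G : CochainComplex X.Modules ℤ} (hG : DCoh.IsKFlat G) {E : DCoh.D X}
    (hE : DCoh.IsPerfect E) (eG : DCoh.toD X G ≅ E) {i : ℤ} {r : ℕ} (f : Y ⟶ X) {M : Y.Modules}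
    (hM : FlatMod.IsFinLocFreeOfRank r M)
    (e : DerivedCategory.Q.obj ((pullCx f).obj G) ≅ DerivedCategory.Q.obj (sg i M)) (y : Y) :
    f y ∈ locus G i r := by
  obtain ⟨V, hxV, hV⟩ := hE (f y)
  obtain ⟨S, hS, ⟨eS⟩⟩ := hV G ⟨eG⟩
  let eS' : DerivedCategory.Q.obj ((pullCx V.ι).obj G) ≅ DerivedCategory.Q.obj S :=
    DerivedCategory.Q.mapIso ((KFlat.FlatPull.restrictCxIso V).app G).symm ≪≫ eS
  have hSk := KFlat.LocalD.isKFlat_of_isStrictlyPerfect hS
  let V' := f ⁻¹ᵁ V
  let e' : DerivedCategory.Q.obj ((pullCx (f ∣_ V)).obj S) ≅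
      DerivedCategory.Q.obj (sg i ((Scheme.Modules.pullback V'.ι).obj M)) :=
    pullQIso (f ∣_ V) hSk (isKFlat_pullCx V.ι hG) eS'.symm ≪≫
      DerivedCategory.Q.mapIso (cxComm (morphismRestrict_ι f V) G) ≪≫
      pullQIso V'.ι (isKFlat_pullCx f hG) (isKFlat_sg i (isFinLocFree_of_ofRank hM)) e ≪≫
      DerivedCategory.Q.mapIso (sgPull V'.ι i M)
  obtain ⟨h₁, h₂⟩ := num_of_iso_sg (KFlat.LocFree.isStrictlyPerfect_pullCx (f ∣_ V) hS)
    (ParaFormal.Elkik.isFinLocFreeOfRank_pullback V'.ι hM) e' (⟨y, hxV⟩ : (V' : Scheme.{u}))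
  rw [c_pull, c_pull] at h₂
  have hv : NumOK S i ((f ∣_ V) ⟨y, hxV⟩) ∧ c S i ((f ∣_ V) ⟨y, hxV⟩) + c S (i + 1) ((f ∣_ V) ⟨y, hxV⟩) =
      fibreRank (S.X (i + 1)) ((f ∣_ V) ⟨y, hxV⟩) + r := by
    refine ⟨fun j hj => ?_, h₂.trans (congrArg (· + r) (fibreRank_pull _ _ _))⟩
    have := h₁ j hj
    rw [c_pull, c_pull] at this
    exact this.trans (fibreRank_pull _ _ _)
  obtain ⟨W, hW, hsh⟩ := exists_shape hG hS eS' hv
  refine mem_locus.2 ⟨W, ?_, hsh⟩
  have : V.ι ((f ∣_ V) ⟨y, hxV⟩) = f y := by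
    rw [← Scheme.Hom.comp_apply, morphismRestrict_ι]
    rfl
  rwa [this] at hW

end Groth.Agent.DEq.LocFreeLocus

end
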