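import Groth.Agent.KFlat.ProjPerfect
import Groth.Agent.CohDerLib.QC.PushSums
import Groth.Agent.QCohD.DQ
import Groth.Agent.DEq.AffineGen

/-!
# The projection formula on `D_QCoh` for quasi-compact quasi-separated morphisms

The projection map `ν` of `KFlat.ProjPerfect` is invertible at every K-flat complex with quasi-coherent
cohomology: on an affine open `V` of the base, the objects of `D(V)` at whose extension by zero it is invertible,
and whose inverse image tensored with `J` is quasi-coherent over `f⁻¹ V`, are closed under triangles and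
coproducts and contain the structure sheaf.
-/

set_option autoImplicit false
set_option linter.unusedSectionVars false

universe u

open CategoryTheory CategoryTheory.Limits AlgebraicGeometry CategoryTheory.Pretriangulated
open Groth.Agent.KFlat.Pull Groth.Agent.KFlat.LTensor Groth.Agent.KFlat.WeakKInj Groth.Agent.KFlat.RPush
open Groth.Agent.KFlat.UnitCx Groth.Agent.KFlat.StalkD Groth.Agent.KFlat.StalkCx Groth.Agent.KFlat.ProjFormula
open Groth.Agent.KFlat.ExtZeroTensorCx Groth.Agent.KFlat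

attribute [local instance] HasDerivedCategory.standard

namespace Groth.Agent.DEq.ProjQCoh

section Model

variable {Y Z : Scheme.{u}} {F : DCoh.D Y ⥤ DCoh.D Z} {G : CochainComplex Y.Modules ℤ ⥤ CochainComplex Z.Modules ℤ}
  (t : DerivedCategory.Q ⋙ F ⟶ G ⋙ DerivedCategory.Q)

set_option maxHeartbeats 800000 in
/-- A triangulated property at the ends of the image of a triangle gives it in the middle. -/
theorem mem_middle_of_model (ht : ∀ P, DCoh.IsKFlat P → IsIso (t.app P)) [G.PreservesZeroMorphisms]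
    (hG : ∀ S : ShortComplex (CochainComplex Y.Modules ℤ),
      (∀ q, (S.map (HomologicalComplex.eval Y.Modules (ComplexShape.up ℤ) q)).Splitting) →
        (S.map G).ShortExact)
    {P : ObjectProperty (DCoh.D Z)} [P.IsClosedUnderIsomorphisms] [P.IsTriangulated]
    (T : Triangle (DCoh.D Y)) (hT : T ∈ distTriang (DCoh.D Y))
    (h₁ : P (F.obj T.obj₁)) (h₃ : P (F.obj T.obj₃)) : P (F.obj T.obj₂) := by
  obtain ⟨A, A', r, ⟨w⟩⟩ := TorTriangle.exists_kflat_cone _ (inv_rot_of_distTriang _ hT)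
  let C := CochainComplex.mappingCone r
  let S := (CochainComplex.mappingCone.triangleRotateShortComplex r).map G
  have hS : S.ShortExact := hG _ (CochainComplex.mappingCone.triangleRotateShortComplexSplitting r)
  let i₁ : DerivedCategory.Q.obj A.1 ≅ T.obj₃⟦(-1 : ℤ)⟧ := Triangle.π₁.mapIso w
  let i₂ : DerivedCategory.Q.obj A'.1 ≅ T.obj₁ := Triangle.π₂.mapIso w
  let i₃ : DerivedCategory.Q.obj C ≅ T.obj₂ := Triangle.π₃.mapIso w
  let k : DerivedCategory.Q.obj (A.1⟦(1 : ℤ)⟧) ≅ T.obj₃ :=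
    (DerivedCategory.Q.commShiftIso (1 : ℤ)).app A.1 ≪≫ (shiftFunctor (DCoh.D Y) (1 : ℤ)).mapIso i₁ ≪≫
      (shiftEquiv (DCoh.D Y) (1 : ℤ)).counitIso.app T.obj₃
  let c₁ : F.obj (DerivedCategory.Q.obj A'.1) ≅ DerivedCategory.Q.obj S.X₁ := @asIso _ _ _ _ _ (ht _ A'.2)
  let c₂ : F.obj (DerivedCategory.Q.obj C) ≅ DerivedCategory.Q.obj S.X₂ :=
    @asIso _ _ _ _ _ (ht C (Groth.Agent.KFlat.isKFlat_mappingCone (O := Y.sheaf) r A.2 A'.2))
  let c₃ : F.obj (DerivedCategory.Q.obj (A.1⟦(1 : ℤ)⟧)) ≅ DerivedCategory.Q.obj S.X₃ :=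
    @asIso _ _ _ _ _ (ht _ (Groth.Agent.KFlat.isKFlat_shift (O := Y.sheaf) A.2 1))
  exact P.prop_of_iso (c₂.symm ≪≫ F.mapIso i₃)
    (P.ext_of_isTriangulatedClosed₂ _ (DerivedCategory.triangleOfSES_distinguished hS)
      (P.prop_of_iso ((F.mapIso i₂).symm ≪≫ c₁) h₁) (P.prop_of_iso ((F.mapIso k).symm ≪≫ c₃) h₃))

end Model

variable {X Y : Scheme.{u}} (f : X ⟶ Y) [DCoh.HasRpush f] [DCoh.HasLpull f]
  (J : CochainComplex X.Modules ℤ) [J.IsKInjective]
  [DCoh.HasLTensorCx (ProjPerfect.fJ f J)] [DCoh.HasLTensorCx J] (V : Y.Opens)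

/-- `M ↦ (Lf^* M ⊗ᴸ J)|_{f⁻¹ V}`. -/
noncomputable abbrev H : DCoh.D Y ⥤ DCoh.D (f ⁻¹ᵁ V : Scheme.{u}) :=
  (DCoh.Lpull f ⋙ DCoh.LTensorCx J) ⋙ DCoh.restrictD (f ⁻¹ᵁ V).ι

theorem qcoh_H_middle (T : Triangle (DCoh.D Y)) (hT : T ∈ distTriang (DCoh.D Y))
    (h₁ : DCoh.IsQCohD ((H f J V).obj T.obj₁)) (h₃ : DCoh.IsQCohD ((H f J V).obj T.obj₃)) :
    DCoh.IsQCohD ((H f J V).obj T.obj₂) :=
  have : (Scheme.Modules.pullback f).Additive := inferInstance
  have : (pullCx f).Additive :=
    inferInstanceAs ((Scheme.Modules.pullback f).mapHomologicalComplex (ComplexShape.up ℤ)).Additive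
  have hz : (pullCx f).PreservesZeroMorphisms := inferInstance
  mem_middle_of_model (F := DCoh.Lpull f ⋙ DCoh.LTensorCx J)
    (G := pullCx f ⋙ (DCoh.tensorCx (X := X)).flip.obj J)
    ((Functor.associator _ _ _).inv ≫ Functor.whiskerRight (toPull f) _ ≫ (Functor.associator _ _ _).hom ≫
      Functor.whiskerLeft (pullCx f) (toTensor J) ≫ (Functor.associator _ _ _).inv)
    (fun A hA => by
      have := isIso_toPull f hA
      have := isIso_toTensor J (isKFlat_pullCx f hA)
      simp only [NatTrans.comp_app, Functor.associator_inv_app, Functor.associator_hom_app,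
        Functor.whiskerRight_app, Functor.whiskerLeft_app, Category.id_comp, Category.comp_id]
      infer_instance)
    (fun S spl => Groth.Agent.KFlat.shortExact_tens_flip (O := X.sheaf) (S := @ShortComplex.map _ _ _ _ _ _ S (pullCx f) hz)
      (fun q => (spl q).map (Scheme.Modules.pullback f)) J)
    (P := ObjectProperty.inverseImage (DCoh.IsQCohD (X := (f ⁻¹ᵁ V : Scheme.{u})))
      (DCoh.restrictD (f ⁻¹ᵁ V).ι)) T hT h₁ h₃

theorem preserves_H {ι : Type u} (C : ι → DCoh.D Y) : PreservesColimit (Discrete.functor C) (H f J V) :=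
  have := hasLpull f
  have : (DCoh.Lpull f).IsLeftAdjoint := (DerivedAdj.adj f).isLeftAdjoint
  have h1 : PreservesColimit (Discrete.functor C ⋙ DCoh.Lpull f) (DCoh.LTensorCx J) :=
    have := LTensorCoprod.preservesColimit_LTensorCx J (fun i => (DCoh.Lpull f).obj (C i))
    preservesColimit_of_iso_diagram (K₁ := Discrete.functor fun i => (DCoh.Lpull f).obj (C i)) _
      (Discrete.natIso fun _ => Iso.refl _)
  have := AffineGen.isLeftAdjoint_restrictD (f ⁻¹ᵁ V).ι
  inferInstance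

theorem preserves_B [QuasiCompact f] [QuasiSeparated f] {ι : Type u} (C : ι → DCoh.D Y)
    (hC : ∀ i, DCoh.IsQCohD ((H f J V).obj (C i))) :
    PreservesColimit (Discrete.functor C) (ProjPerfect.B f J ⋙ DCoh.restrictD V.ι) := by
  have := RPush.hasRpush (f ∣_ V)
  have := preserves_H f J V C
  let C' : ι → DCoh.D (f ⁻¹ᵁ V : Scheme.{u}) := fun i => (H f J V).obj (C i)
  have : HasCoproduct C' := inferInstance
  have : HasCoproduct fun i => (DCoh.Rpush (f ∣_ V)).obj (C' i) := inferInstance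
  have := CohDerLib.QC.isIso_sigmaComparison_Rpush (f ∣_ V) C' hC
  have h1 : PreservesColimit (Discrete.functor C') (DCoh.Rpush (f ∣_ V)) :=
    PreservesCoproduct.of_iso_comparison _ _
  have h2 : PreservesColimit (Discrete.functor C ⋙ H f J V) (DCoh.Rpush (f ∣_ V)) :=
    preservesColimit_of_iso_diagram (K₁ := Discrete.functor C') _ (Discrete.natIso fun _ => Iso.refl _)
  have h3 : PreservesColimit (Discrete.functor C) (H f J V ⋙ DCoh.Rpush (f ∣_ V)) := inferInstance
  exact preservesColimit_of_natIso (F := H f J V ⋙ DCoh.Rpush (f ∣_ V)) _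
    (Functor.associator _ _ _ ≪≫ Functor.isoWhiskerLeft _ (RPushBase.restrictRpushIso f V).symm ≪≫
      (Functor.associator _ _ _).symm)

theorem preserves_A {ι : Type u} (C : ι → DCoh.D Y) :
    PreservesColimit (Discrete.functor C) (ProjPerfect.A f J ⋙ DCoh.restrictD V.ι) :=
  have := LTensorCoprod.preservesColimit_LTensorCx (ProjPerfect.fJ f J) C
  have := AffineGen.isLeftAdjoint_restrictD V.ι
  inferInstance

/-- The class of objects of `D(V)` used in the induction. -/
def Good (N : DCoh.D (V : Scheme.{u})) : Prop :=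
  NatTransClosed.AllShifts (Functor.whiskerLeft (CxOX.extZeroD V.ι) (ProjPerfect.η f J V)) N ∧
    ∀ n : ℤ, DCoh.IsQCohD ((H f J V).obj ((CxOX.extZeroD V.ι).obj (N⟦n⟧)))

theorem qcoh_sigma {S : Scheme.{u}} {ι : Type u} (C : ι → DCoh.D S) (c : Cofan C) (hc : IsColimit c)
    (h : ∀ i, DCoh.IsQCohD (C i)) : DCoh.IsQCohD c.pt :=
  ObjectProperty.prop_of_isColimit (P := DCoh.IsQCohD (X := S)) hc fun ⟨i⟩ => h i

theorem closed_good [QuasiCompact f] [QuasiSeparated f] : CellGen.Closed (Good f J V) := by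
  have := LTensorExact.additive_LTensorCx (ProjPerfect.fJ f J)
  have := LTensorExact.additive_LTensorCx J
  have := ProjPerfect.additive_Lpull f
  let E := CxOX.extZeroD (X := Y) V.ι
  let FA := E ⋙ ProjPerfect.A f J ⋙ DCoh.restrictD V.ι
  let FB := E ⋙ ProjPerfect.B f J ⋙ DCoh.restrictD V.ι
  have hA : NatTransClosed.MidExact FA := fun T hT =>
    ProjPerfect.midExact_A f J V _ (E.map_distinguished T hT)
  have hB : NatTransClosed.MidExact FB := fun T hT =>
    ProjPerfect.midExact_B f J V _ (E.map_distinguished T hT)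
  have tri₂ : ∀ T ∈ (distinguishedTriangles : Set (Triangle (DCoh.D (V : Scheme.{u})))),
      Good f J V T.obj₁ → Good f J V T.obj₃ → Good f J V T.obj₂ := fun T hT h₁ h₃ =>
    ⟨NatTransClosed.allShifts_obj₂ _ hA hB T hT h₁.1 h₃.1, fun n =>
      qcoh_H_middle f J V _ (E.map_distinguished _ (Triangle.shift_distinguished T hT n)) (h₁.2 n) (h₃.2 n)⟩
  have hshift : ∀ {A : DCoh.D (V : Scheme.{u})}, Good f J V A → Good f J V (A⟦(1 : ℤ)⟧) := fun {A} h =>
    ⟨h.1.shift _ 1, fun n => ObjectProperty.prop_of_iso _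
      ((H f J V).mapIso (E.mapIso ((shiftFunctorAdd _ (1 : ℤ) n).app A))) (h.2 (1 + n))⟩
  refine
    { iso := fun {A B} i h => ⟨h.1.iso _ i, fun n => ObjectProperty.prop_of_iso _
        ((H f J V).mapIso (E.mapIso ((shiftFunctor _ n).mapIso i))) (h.2 n)⟩
      tri₂ := tri₂
      tri₃ := fun T hT h₁ h₂ => tri₂ T.rotate (rot_of_distTriang _ hT) h₂ (hshift h₁)
      sum := fun {ι} C c hc h => ?_ }
  have := (ExtZero.extZeroDAdj (X := Y) V).isLeftAdjoint
  have hd : ∀ n : ℤ, IsColimit (Cofan.mk (E.obj (c.pt⟦n⟧)) fun i => E.map ((c.inj i)⟦n⟧')) := fun n =>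
    (isColimitMapCoconeCofanMkEquiv (shiftFunctor _ n ⋙ E) C c.inj)
      (isColimitOfPreserves (shiftFunctor _ n ⋙ E) (hc.ofIsoColimit (Cofan.ext (Iso.refl _) fun i => by simp)))
  refine ⟨fun n => ?_, fun n => ?_⟩
  · let M : ι → DCoh.D Y := fun i => E.obj ((C i)⟦n⟧)
    have := preserves_A f J V M
    have := preserves_B f J V M fun i => (h i).2 n
    let α : Discrete.functor M ⋙ (ProjPerfect.A f J ⋙ DCoh.restrictD V.ι) ≅
        Discrete.functor M ⋙ (ProjPerfect.B f J ⋙ DCoh.restrictD V.ι) :=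
      Discrete.natIso fun i => @asIso _ _ _ _ ((ProjPerfect.η f J V).app (M i.as)) ((h i.as).1 n)
    have e : (IsColimit.coconePointsIsoOfNatIso (isColimitOfPreserves _ (hd n)) (isColimitOfPreserves _ (hd n)) α).hom =
        (ProjPerfect.η f J V).app (E.obj (c.pt⟦n⟧)) := by
      refine (isColimitOfPreserves _ (hd n)).hom_ext fun ⟨i⟩ => ?_
      rw [IsColimit.comp_coconePointsIsoOfNatIso_hom]
      exact ((ProjPerfect.η f J V).naturality _).symm
    change IsIso ((ProjPerfect.η f J V).app (E.obj (c.pt⟦n⟧)))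
    rw [← e]
    infer_instance
  · have := preserves_H f J V fun i => E.obj ((C i)⟦n⟧)
    exact qcoh_sigma _ _ ((isColimitMapCoconeCofanMkEquiv (H f J V) _ _)
      (isColimitOfPreserves (H f J V) (hd n))) fun i => (h i).2 n

theorem qcoh_H_single (hJ : DCoh.IsQCohD (DerivedCategory.Q.obj J)) (m : ℤ) :
    DCoh.IsQCohD ((H f J V).obj (DerivedCategory.Q.obj
      ((HomologicalComplex.single Y.Modules (ComplexShape.up ℤ) m).obj (Coh.structureModule Y)))) := by
  let S := (HomologicalComplex.single Y.Modules (ComplexShape.up ℤ) m).obj (Coh.structureModule Y)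
  have hS : DCoh.IsKFlat S := ProjPerfect.isKFlat_single_one Y m
  let eS : (pullCx f).obj S ≅ (oneCx X)⟦-m⟧ :=
    (HomologicalComplex.singleMapHomologicalComplex (Scheme.Modules.pullback f) (ComplexShape.up ℤ) m).app _ ≪≫
      (HomologicalComplex.single _ _ m).mapIso (Groth.Agent.QCoh.pullbackUnitIso f) ≪≫
      (((CochainComplex.singleFunctors X.Modules).shiftIso (-m) m 0 (neg_add_cancel m)).app _).symm
  let e : (DCoh.LTensorCx J).obj ((DCoh.Lpull f).obj (DerivedCategory.Q.obj S)) ≅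
      (DerivedCategory.Q.obj J)⟦-m⟧ :=
    (DCoh.LTensorCx J).mapIso (@asIso _ _ _ _ ((toPull f).app S) (isIso_toPull f hS)) ≪≫
      (@asIso _ _ _ _ ((toTensor J).app ((pullCx f).obj S)) (isIso_toTensor _ (isKFlat_pullCx f hS))) ≪≫
      (ProjPerfect.flipQ J).app _ ≪≫
      DerivedCategory.Q.mapIso ((((DCoh.tensorCx (X := X)).obj J).mapIso eS) ≪≫
        (PerfectDual.flipShiftIso (-m)).app J) ≪≫ (DerivedCategory.Q.commShiftIso (-m)).app J
  refine ObjectProperty.prop_of_iso _ ((DCoh.restrictD (f ⁻¹ᵁ V).ι).mapIso e).symm ?_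
  intro i
  exact @Groth.Agent.QCoh.isQuasicoherent_of_iso _ _ _
    ((MapHomology.iso (Scheme.Modules.restrictFunctor (f ⁻¹ᵁ V).ι) i).app _).symm
    (@Scheme.Modules.isQuasicoherent_restrictFunctor _ _ (f ⁻¹ᵁ V).ι _ _
      (CohDerLib.QC.isQCohD_shift hJ (-m) i))

/-- A map which is bijective on the stalks over `V` gives an isomorphism after `H`. -/
theorem isIso_H_map {M M' : CochainComplex Y.Modules ℤ} (φ : M ⟶ M') (hM : DCoh.IsKFlat M)
    (hM' : DCoh.IsKFlat M') (hφ : ∀ y : Y, y ∈ V → ∀ q, StalkIso y (φ.f q)) :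
    IsIso ((H f J V).map (DerivedCategory.Q.map φ)) := by
  refine ProjPerfect.isIso_restrict_of_hStalk (f ⁻¹ᵁ V) _ fun z hz => ?_
  have : IsIso ((stCx z).map ((pullCx f).map φ)) :=
    have : ∀ q, IsIso (((stCx z).map ((pullCx f).map φ)).f q) := fun q =>
      @stalkIso_pull _ _ f _ _ z (φ.f q) (hφ (f z) hz q)
    HomologicalComplex.Hom.isIso_of_components _
  have hw : (DCoh.LTensorCx J).map ((DCoh.Lpull f).map (DerivedCategory.Q.map φ)) ≫
      ((DCoh.LTensorCx J).map ((toPull f).app M') ≫ (toTensor J).app ((pullCx f).obj M')) =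
      ((DCoh.LTensorCx J).map ((toPull f).app M) ≫ (toTensor J).app ((pullCx f).obj M)) ≫
        DerivedCategory.Q.map (((DCoh.tensorCx (X := X)).map ((pullCx f).map φ)).app J) := by
    refine ((Category.assoc _ _ _).symm.trans ((congrArg (· ≫ _) (((DCoh.LTensorCx J).map_comp _ _).symm.trans
      ((congrArg (DCoh.LTensorCx J).map ((toPull f).naturality φ)).trans
        ((DCoh.LTensorCx J).map_comp _ _)))).trans (Category.assoc _ _ _))).trans ?_
    exact (congrArg (_ ≫ ·) ((toTensor J).naturality ((pullCx f).map φ))).trans (Category.assoc _ _ _).symm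
  have := isIso_toPull f hM
  have := isIso_toPull f hM'
  have := isIso_toTensor J (isKFlat_pullCx f hM)
  have := isIso_toTensor J (isKFlat_pullCx f hM')
  exact @HStalkIso.conj X z _ _ _ _ _ _ (hStalkIso_Q _ (isIso_stCx_tens ((pullCx f).map φ) J)) _ _
    (IsIso.comp_isIso' inferInstance inferInstance) (IsIso.comp_isIso' inferInstance inferInstance) hw

theorem good_one (hJ : DCoh.IsQCohD (DerivedCategory.Q.obj J)) (k : ℤ) :
    Good f J V (DerivedCategory.Q.obj ((HomologicalComplex.single (V : Scheme.{u}).Modules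
      (ComplexShape.up ℤ) k).obj (Coh.structureModule (V : Scheme.{u})))) := by
  let E := CxOX.extZeroD (X := Y) V.ι
  let sV := HomologicalComplex.single (V : Scheme.{u}).Modules (ComplexShape.up ℤ)
  let O := Coh.structureModule (V : Scheme.{u})
  let fQ := (CxOX.extZero (X := Y) V.ι).mapDerivedCategoryFactors
  have ix : ∀ n : ℤ, (DerivedCategory.Q.obj ((sV k).obj O))⟦n⟧ ≅ DerivedCategory.Q.obj ((sV (k - n)).obj O) :=
    fun n => ((DerivedCategory.Q.commShiftIso n).app _).symm ≪≫ DerivedCategory.Q.mapIso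
      (((CochainComplex.singleFunctors (V : Scheme.{u}).Modules).shiftIso n (k - n) k (by omega)).app O)
  refine ⟨fun n => ?_, fun n => ?_⟩
  · refine (NatTrans.isIso_app_iff_of_iso (Functor.whiskerLeft E (ProjPerfect.η f J V)) (ix n)).2 ?_
    change IsIso ((ProjPerfect.η f J V).app (E.obj _))
    exact (NatTrans.isIso_app_iff_of_iso (ProjPerfect.η f J V) (fQ.app _)).2
      (NatTransClosed.AllShifts.app _ (ProjPerfect.allShifts_jS_one f J V (k - n)))
  · refine ObjectProperty.prop_of_iso _ ((H f J V).mapIso (E.mapIso (ix n) ≪≫ fQ.app _)).symm ?_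
    let u₀ : O ≅ (Scheme.Modules.restrictFunctor V.ι).obj (Coh.structureModule Y) :=
      ((Scheme.Modules.restrictFunctorIsoPullback V.ι).app _ ≪≫ Groth.Agent.QCoh.pullbackUnitIso V.ι).symm
    let φ₀ : (CxOX.extZero V.ι).obj O ⟶ Coh.structureModule Y :=
      (CxOX.extZero V.ι).map u₀.hom ≫ (CxOX.extZeroAdj V.ι).counit.app _
    have hφ₀ : IsIso ((Scheme.Modules.restrictFunctor V.ι).map φ₀) := by
      have := ProjPerfect.isIso_restrict_counit V (Coh.structureModule Y)
      rw [Functor.map_comp]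
      infer_instance
    let φ := ((HomologicalComplex.singleMapHomologicalComplex (CxOX.extZero V.ι) (ComplexShape.up ℤ) (k - n)).app
      O).hom ≫ (HomologicalComplex.single Y.Modules (ComplexShape.up ℤ) (k - n)).map φ₀
    have : IsIso ((H f J V).map (DerivedCategory.Q.map φ)) := by
      refine isIso_H_map f J V φ (isKFlat_extZero V (ProjPerfect.isKFlat_single_one _ _))
        (ProjPerfect.isKFlat_single_one Y _) fun y hy q => ?_
      have h0 : StalkIso y φ₀ := (stalkIso_restrict_iff (V := V) ⟨y, hy⟩ φ₀).1 inferInstance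
      have h1 : IsIso ((stCx y).map φ) := by
        have := isIso_stCx_single (y := y) φ₀ (k - n)
        rw [Functor.map_comp]
        infer_instance
      exact inferInstanceAs (IsIso ((HomologicalComplex.eval _ _ q).map ((stCx y).map φ)))
    exact ObjectProperty.prop_of_iso _ (asIso ((H f J V).map (DerivedCategory.Q.map φ))).symm
      (qcoh_H_single f J V hJ (k - n))

/-- The projection map is invertible at K-flat complexes with quasi-coherent cohomology. -/
theorem isIso_ν [QuasiCompact f] [QuasiSeparated f] (hJ : DCoh.IsQCohD (DerivedCategory.Q.obj J))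
    (P : CochainComplex Y.Modules ℤ) (hP : DCoh.IsKFlat P) (hq : DCoh.IsQCohD (DerivedCategory.Q.obj P)) :
    IsIso ((ProjPerfect.ν f J).app (DerivedCategory.Q.obj P)) := by
  refine isIso_of_hStalk _ fun y => ?_
  obtain ⟨V, hV, hyV⟩ : ∃ V : Y.Opens, IsAffineOpen V ∧ y ∈ V := by
    obtain ⟨V, hV, hyV, -⟩ := TopologicalSpace.Opens.isBasis_iff_nbhd.1 Y.isBasis_affineOpens
      (TopologicalSpace.Opens.mem_top y)
    exact ⟨V, hV, hyV⟩
  have hVa : IsAffine (V : Scheme.{u}) := hV
  have hq' : DCoh.IsQCohD (DerivedCategory.Q.obj ((DCoh.restrictCx V).obj P)) :=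
    QCohModel.isQCohD_restrJ V.ι hq
  have hgood := AffineGen.mem (closed_good f J V) (good_one f J V hJ) hq'
  have h1 : IsIso ((ProjPerfect.η f J V).app ((CxOX.extZeroD V.ι).obj
      (DerivedCategory.Q.obj ((DCoh.restrictCx V).obj P)))) := NatTransClosed.AllShifts.app (Functor.whiskerLeft (CxOX.extZeroD V.ι) (ProjPerfect.η f J V)) hgood.1
  have h2 : IsIso ((ProjPerfect.η f J V).app (DerivedCategory.Q.obj
      ((jSc V).obj ((DCoh.restrictCx V).obj P)))) :=
    (NatTrans.isIso_app_iff_of_iso (ProjPerfect.η f J V)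
      ((CxOX.extZero V.ι).mapDerivedCategoryFactors.app _)).1 h1
  have h3 := (ProjPerfect.isIso_η_iff f J V (ProjPerfect.counitCx V P)
    (isKFlat_extZero V (LocalD.isKFlat_restrict hP V)) hP (fun y hy q => by
      have := ProjPerfect.isIso_restrict_counit V (P.X q)
      exact (stalkIso_restrict_iff (V := V) ⟨y, hy⟩ ((CxOX.extZeroAdj V.ι).counit.app (P.X q))).1
        inferInstance)).1 h2
  exact hStalkIso_of_restrict (V := V) ⟨y, hyV⟩ _ (@hStalkIso_of_isIso _ _ _ _ _ h3)

/-- The projection formula on `D_QCoh`: the hypothesis `hM` allows any representatives. -/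
theorem nonempty_iso {X Y : Scheme.{u}} (f : X ⟶ Y) [QuasiCompact f] [QuasiSeparated f] [DCoh.HasRpush f]
    [DCoh.HasLpull f] (P : CochainComplex Y.Modules ℤ) (hP : DCoh.IsKFlat P)
    (hq : DCoh.IsQCohD (DerivedCategory.Q.obj P)) [DCoh.HasLTensorCx P]
    [DCoh.HasLTensorCx ((pullCx f).obj P)] (E : DCoh.D X) (hE : DCoh.IsQCohD E) :
    Nonempty ((DCoh.LTensorCx P).obj ((DCoh.Rpush f).obj E) ≅
      (DCoh.Rpush f).obj ((DCoh.LTensorCx ((pullCx f).obj P)).obj E)) := by
  let J := (injRes X).obj (DerivedCategory.Q.objPreimage E)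
  let eJ : DerivedCategory.Q.obj J ≅ E :=
    injQIso.app (DerivedCategory.Q.objPreimage E) ≪≫ DerivedCategory.Q.objObjPreimageIso E
  have := LTensor.hasLTensorCx (ProjPerfect.fJ f J)
  have := LTensor.hasLTensorCx J
  have := isIso_ν f J (QCohModel.isQCohD_of_iso eJ.symm hE) P hP hq
  let rp : DerivedCategory.Q.obj (ProjPerfect.fJ f J) ≅ (DCoh.Rpush f).obj (DerivedCategory.Q.obj J) :=
    @asIso _ _ _ _ ((toRpush f).app J) (isIso_toRpush f J)
  let l₁ : (DCoh.LTensorCx P).obj (DerivedCategory.Q.obj (ProjPerfect.fJ f J)) ≅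
      DerivedCategory.Q.obj ((DCoh.tensorCx.obj (ProjPerfect.fJ f J)).obj P) :=
    @asIso _ _ _ _ ((toTensor P).app (ProjPerfect.fJ f J)) (isIso_toTensor_of_kflat P hP _)
  let l₂ : (ProjPerfect.A f J).obj (DerivedCategory.Q.obj P) ≅
      DerivedCategory.Q.obj ((DCoh.tensorCx.obj (ProjPerfect.fJ f J)).obj P) :=
    (@asIso _ _ _ _ ((toTensor (ProjPerfect.fJ f J)).app P) (isIso_toTensor _ hP)) ≪≫
      (ProjPerfect.flipQ (ProjPerfect.fJ f J)).app P
  let r₁ : (DCoh.LTensorCx J).obj ((DCoh.Lpull f).obj (DerivedCategory.Q.obj P)) ≅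
      DerivedCategory.Q.obj ((DCoh.tensorCx.obj J).obj ((pullCx f).obj P)) :=
    (DCoh.LTensorCx J).mapIso (@asIso _ _ _ _ ((toPull f).app P) (isIso_toPull f hP)) ≪≫
      (@asIso _ _ _ _ ((toTensor J).app ((pullCx f).obj P)) (isIso_toTensor _ (isKFlat_pullCx f hP))) ≪≫
      (ProjPerfect.flipQ J).app _
  let r₂ : (DCoh.LTensorCx ((pullCx f).obj P)).obj (DerivedCategory.Q.obj J) ≅
      DerivedCategory.Q.obj ((DCoh.tensorCx.obj J).obj ((pullCx f).obj P)) :=
    @asIso _ _ _ _ ((toTensor ((pullCx f).obj P)).app J) (isIso_toTensor_of_kflat _ (isKFlat_pullCx f hP) _)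
  exact ⟨(DCoh.LTensorCx P).mapIso ((DCoh.Rpush f).mapIso eJ.symm ≪≫ rp.symm) ≪≫ l₁ ≪≫ l₂.symm ≪≫
    asIso ((ProjPerfect.ν f J).app (DerivedCategory.Q.obj P)) ≪≫ (DCoh.Rpush f).mapIso (r₁ ≪≫ r₂.symm ≪≫
      (DCoh.LTensorCx ((pullCx f).obj P)).mapIso eJ)⟩

end Groth.Agent.DEq.ProjQCoh
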